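import Cfsg.Agent.Orth.Count

/-!
# Orders of the standard orthogonal groups; when `-1 ∈ Ω`; orders of `PΩ`
-/

set_option autoImplicit false

namespace CL.Orth

open QuadraticMap Module

variable {F : Type*} [Field F]

theorem cast_pow_sub_one {q : ℕ} (hq : 1 ≤ q) (k : ℕ) : ((q ^ k - 1 : ℕ) : ℤ) = (q : ℤ) ^ k - 1 := by
  rw [Nat.cast_sub (Nat.one_le_pow _ _ hq)]; simp

section Orders
variable [Finite F]

theorem card_O_qOdd (h2 : (2 : F) ≠ 0) (m : ℕ) : Nat.card (O (qOdd m F)) =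
    2 * Nat.card F ^ (m ^ 2) * ∏ i ∈ Finset.range m, (Nat.card F ^ (2 * (i + 1)) - 1) := by
  rw [card_O_congr (oddIso m F)]
  apply Nat.cast_injective (R := ℤ)
  rw [card_O_odd h2]
  push_cast [cast_pow_sub_one (one_le_card_field (F := F))]
  rfl

theorem card_O_qPlus (m : ℕ) : Nat.card (O (qPlus (m + 1) F)) =
    2 * Nat.card F ^ ((m + 1) * m) * (Nat.card F ^ (m + 1) - 1) *
      ∏ i ∈ Finset.range m, (Nat.card F ^ (2 * (i + 1)) - 1) := by
  rw [card_O_congr (plusIso (m + 1) F)]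
  apply Nat.cast_injective (R := ℤ)
  rw [card_O_plus]
  push_cast [cast_pow_sub_one (one_le_card_field (F := F))]
  rfl

theorem card_O_qMinus {a b : F}
    (hab : ∀ z₁ z₂ : F, z₁ ^ 2 + a * z₁ * z₂ + b * z₂ ^ 2 = 0 → z₁ = 0 ∧ z₂ = 0) (m : ℕ) :
    Nat.card (O (qMinus m F a b)) =
    2 * Nat.card F ^ ((m + 1) * m) * (Nat.card F ^ (m + 1) + 1) *
      ∏ i ∈ Finset.range m, (Nat.card F ^ (2 * (i + 1)) - 1) := by
  rw [card_O_congr (minusIso m F a b)]
  apply Nat.cast_injective (R := ℤ)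
  rw [card_O_minus hab]
  push_cast [cast_pow_sub_one (one_le_card_field (F := F))]
  rfl

theorem card_mod_four_of_two_ne_zero (h2 : (2 : F) ≠ 0) :
    Nat.card F % 4 = 1 ∨ Nat.card F % 4 = 3 := by
  have := Fintype.ofFinite F
  have := FiniteField.odd_card_of_char_ne_two (ringChar_ne_two_of h2)
  rw [Nat.card_eq_fintype_card]
  omega

theorem pow_mod_four {q : ℕ} (m : ℕ) (hq : q % 4 = 3) : q ^ m % 4 = if Even m then 1 else 3 := by
  induction m with
  | zero => simp
  | succ m ih =>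
    rw [pow_succ, Nat.mul_mod, ih, hq]
    by_cases h : Even m
    · simp [h, Nat.even_add_one]
    · simp [h, Nat.even_add_one]

theorem isSquare_neg_one_pow_iff (h2 : (2 : F) ≠ 0) (m : ℕ) :
    IsSquare ((-1 : F) ^ m) ↔ Nat.card F ^ m % 4 = 1 := by
  have := Fintype.ofFinite F
  have h1 := FiniteField.isSquare_neg_one_iff (F := F)
  rw [← Nat.card_eq_fintype_card] at h1
  rcases card_mod_four_of_two_ne_zero h2 with h | h
  · have h3 : IsSquare (-1 : F) := h1.2 (by omega)
    rw [Nat.pow_mod, h, one_pow]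
    simpa using h3.pow m
  · rw [pow_mod_four m h]
    rcases Nat.even_or_odd m with hm | hm
    · rw [hm.neg_one_pow, if_pos hm]; simp
    · rw [hm.neg_one_pow, if_neg (Nat.not_even_iff_odd.2 hm), h1, h]; simp

theorem pow_mod_four_cases (h2 : (2 : F) ≠ 0) (m : ℕ) :
    Nat.card F ^ m % 4 = 1 ∨ Nat.card F ^ m % 4 = 3 := by
  rcases card_mod_four_of_two_ne_zero h2 with h | h
  · left; rw [Nat.pow_mod, h, one_pow, Nat.one_mod]
  · rw [pow_mod_four m h]; split_ifs <;> simp

theorem isSquare_mul_iff_of_not_isSquare {s d : F} (hs : s ≠ 0) (hd : ¬ IsSquare d) :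
    IsSquare (s * d) ↔ ¬ IsSquare s := by
  classical
  have := Fintype.ofFinite F
  have hd0 : d ≠ 0 := by rintro rfl; exact hd IsSquare.zero
  rw [← quadraticChar_one_iff_isSquare (mul_ne_zero hs hd0), map_mul,
    quadraticChar_neg_one_iff_not_isSquare.2 hd, ← quadraticChar_neg_one_iff_not_isSquare]
  omega

theorem negO_mem_commutator_qPlus (h2 : (2 : F) ≠ 0) (m : ℕ) :
    negO (qPlus m F) ∈ commutator (O (qPlus m F)) ↔ Nat.card F ^ m % 4 = 1 := by
  rw [mem_commutator_iff_of_spinRel h2 (qPlus_nondegenerate m) (reflProd_negO_qPlus m).ne_zero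
    (reflProd_negO_qPlus m).spinRel, dsign_negO h2, finrank_plus, isSquare_neg_one_pow_iff h2]
  simp

theorem negO_mem_commutator_qMinus (h2 : (2 : F) ≠ 0) {a b : F}
    (hab : ∀ z₁ z₂ : F, z₁ ^ 2 + a * z₁ * z₂ + b * z₂ ^ 2 = 0 → z₁ = 0 ∧ z₂ = 0) (m : ℕ) :
    negO (qMinus m F a b) ∈ commutator (O (qMinus m F a b)) ↔ Nat.card F ^ (m + 1) % 4 = 3 := by
  have hd := disc_ne_zero hab
  rw [mem_commutator_iff_of_spinRel h2 (qMinus_nondegenerate m hd)
    (reflProd_negO_qMinus m hd).ne_zero (reflProd_negO_qMinus m hd).spinRel, dsign_negO h2,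
    finrank_minus, show (-1 : F) ^ m * (4 * b - a ^ 2) = (-1) ^ (m + 1) * -(4 * b - a ^ 2) by ring,
    isSquare_mul_iff_of_not_isSquare (by simp) (not_isSquare_disc h2 hab),
    isSquare_neg_one_pow_iff h2]
  have := pow_mod_four_cases h2 (m + 1)
  have h3 : (-1 : ℤˣ) ^ (2 * m + 2) = 1 := Even.neg_one_pow ⟨m + 1, by ring⟩
  rw [h3, eq_self, true_and]
  omega

omit [Finite F] in
theorem negO_not_mem_commutator_qOdd (h2 : (2 : F) ≠ 0) (m : ℕ) :
    negO (qOdd m F) ∉ commutator (O (qOdd m F)) := by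
  intro h
  have := Abelianization.commutator_subset_ker (dickson (qOdd_nondegenerate h2 m)
    (tame_of_two_ne_zero h2 (qOdd_nondegenerate h2 m))) h
  rw [MonoidHom.mem_ker, dickson_apply, dsign_negO h2, finrank_odd, pow_succ, pow_mul] at this
  simp at this

end Orders

variable {ι : Type} [Fintype ι] [DecidableEq ι]

theorem card_isometryGroup (Q : QuadraticForm F (ι → F)) :
    Nat.card (Cfsg.isometryGroup F ⇑Q) = Nat.card (O Q) := Nat.card_congr (bridge Q).toEquiv

theorem card_pomega_mul (Q : QuadraticForm F (ι → F)) :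
    Nat.card (Cfsg.POmega F ⇑Q) * Nat.card (Subgroup.center (commutator (O Q))) *
      (commutator (O Q)).index = Nat.card (O Q) := by
  rw [Nat.card_congr (pomegaEquiv Q).toEquiv, ← Subgroup.card_eq_card_quotient_mul_card_subgroup,
    Subgroup.card_mul_index]

open Classical in
/-- Order of the centre of `Ω` for tame isotropic forms in dimension at least three. -/
theorem card_center_commutator {V : Type*} [AddCommGroup V] [Module F V] [FiniteDimensional F V]
    {Q : QuadraticForm F V} (hQ : Q.polarBilin.Nondegenerate) (hT : Tame Q) {u : V} (hu : Q u = 0)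
    (hu0 : u ≠ 0) (h3 : 3 ≤ finrank F V) :
    Nat.card (Subgroup.center (commutator (O Q))) =
      if (2 : F) ≠ 0 ∧ negO Q ∈ commutator (O Q) then 2 else 1 := by
  rw [← E_eq_commutator hQ hT hu hu0 h3]
  split_ifs with h
  · exact card_center_E_of_mem hQ h3 hu hu0 h.1 h.2
  · rw [center_E_eq_bot hQ h3 hu hu0 (by tauto), Subgroup.card_bot]

theorem gcd_four_mod (n : ℕ) : Nat.gcd 4 n = Nat.gcd (n % 4) 4 := Nat.gcd_rec 4 n

theorem card_pomega_qOdd [Finite F] (h2 : (2 : F) ≠ 0) {m : ℕ} (hm : 1 ≤ m) :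
    2 * Nat.card (Cfsg.POmega F (Cfsg.quadFormOdd m F)) =
      Nat.card F ^ (m ^ 2) * ∏ i ∈ Finset.range m, (Nat.card F ^ (2 * (i + 1)) - 1) := by
  have hQ := qOdd_nondegenerate h2 m
  obtain ⟨u, hu, hu0⟩ := exists_singular_qOdd (F := F) hm
  have h := card_pomega_mul (qOdd m F)
  rw [card_center_commutator hQ (tame_of_two_ne_zero h2 hQ) hu hu0 (by rw [finrank_odd]; omega),
    if_neg (fun h => negO_not_mem_commutator_qOdd h2 m h.2),
    index_commutator_odd h2 hQ (by rw [finrank_odd]; omega), card_O_qOdd h2, coe_qOdd,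
    mul_assoc 2] at h
  omega

theorem even_pow_card_of_two_eq_zero [Finite F] (h2 : (2 : F) = 0) (m : ℕ) :
    Nat.card F ^ (m + 1) % 2 = 0 := by
  have := Fintype.ofFinite F
  have : CharP F 2 := (CharP.charP_iff_prime_eq_zero Nat.prime_two).2 (by exact_mod_cast h2)
  have := FiniteField.even_card_of_char_two (ringChar.eq F 2)
  rw [Nat.card_eq_fintype_card, pow_succ, Nat.mul_mod, this]
  simp

theorem card_pomega_qPlus [Finite F] {m : ℕ} (hm : 1 ≤ m) (hT : Tame (qPlus (m + 1) F)) :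
    Nat.gcd 4 (Nat.card F ^ (m + 1) - 1) *
      Nat.card (Cfsg.POmega F (Cfsg.quadFormPlus (m + 1) F)) =
      Nat.card F ^ ((m + 1) * m) * (Nat.card F ^ (m + 1) - 1) *
        ∏ i ∈ Finset.range m, (Nat.card F ^ (2 * (i + 1)) - 1) := by
  have hQ := qPlus_nondegenerate (F := F) (m + 1)
  obtain ⟨u, hu, hu0⟩ := exists_singular_qPlus (F := F) (m := m + 1) (by omega)
  have h := card_pomega_mul (qPlus (m + 1) F)
  rw [card_center_commutator hQ hT hu hu0 (by rw [finrank_plus]; omega), card_O_qPlus, coe_qPlus,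
    mul_assoc 2, mul_assoc 2] at h
  have h1 : 1 ≤ Nat.card F ^ (m + 1) := Nat.one_le_pow _ _ one_le_card_field
  rw [gcd_four_mod]
  by_cases h2 : (2 : F) = 0
  · rw [if_neg (fun h => h.1 h2), index_commutator_even h2 hQ hT (by rw [finrank_plus]; omega)] at h
    have h3 := even_pow_card_of_two_eq_zero h2 m
    have h4 : (Nat.card F ^ (m + 1) - 1) % 4 = 1 ∨ (Nat.card F ^ (m + 1) - 1) % 4 = 3 := by omega
    rcases h4 with h4 | h4 <;> rw [h4] <;> norm_num <;> omega
  · rw [index_commutator_odd h2 hQ (by rw [finrank_plus]; omega),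
      negO_mem_commutator_qPlus h2] at h
    rcases pow_mod_four_cases h2 (m + 1) with h3 | h3
    · rw [if_pos ⟨h2, h3⟩] at h
      rw [show (Nat.card F ^ (m + 1) - 1) % 4 = 0 by omega]
      norm_num; omega
    · rw [if_neg (by omega)] at h
      rw [show (Nat.card F ^ (m + 1) - 1) % 4 = 2 by omega]
      norm_num; omega

theorem card_pomega_qMinus [Finite F] {a b : F}
    (hab : ∀ z₁ z₂ : F, z₁ ^ 2 + a * z₁ * z₂ + b * z₂ ^ 2 = 0 → z₁ = 0 ∧ z₂ = 0) {m : ℕ}
    (hm : 1 ≤ m) (hT : Tame (qMinus m F a b)) :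
    Nat.gcd 4 (Nat.card F ^ (m + 1) + 1) *
      Nat.card (Cfsg.POmega F (Cfsg.quadFormMinus m F a b)) =
      Nat.card F ^ ((m + 1) * m) * (Nat.card F ^ (m + 1) + 1) *
        ∏ i ∈ Finset.range m, (Nat.card F ^ (2 * (i + 1)) - 1) := by
  have hQ := qMinus_nondegenerate m (disc_ne_zero hab)
  obtain ⟨u, hu, hu0⟩ := exists_singular_qMinus (F := F) hm a b
  have h := card_pomega_mul (qMinus m F a b)
  rw [card_center_commutator hQ hT hu hu0 (by rw [finrank_minus]; omega), card_O_qMinus hab,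
    coe_qMinus, mul_assoc 2, mul_assoc 2] at h
  rw [gcd_four_mod]
  by_cases h2 : (2 : F) = 0
  · rw [if_neg (fun h => h.1 h2), index_commutator_even h2 hQ hT (by rw [finrank_minus]; omega)] at h
    have h3 := even_pow_card_of_two_eq_zero h2 m
    have h4 : (Nat.card F ^ (m + 1) + 1) % 4 = 1 ∨ (Nat.card F ^ (m + 1) + 1) % 4 = 3 := by omega
    rcases h4 with h4 | h4 <;> rw [h4] <;> norm_num <;> omega
  · rw [index_commutator_odd h2 hQ (by rw [finrank_minus]; omega),
      negO_mem_commutator_qMinus h2 hab] at h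
    rcases pow_mod_four_cases h2 (m + 1) with h3 | h3
    · rw [if_neg (by omega)] at h
      rw [show (Nat.card F ^ (m + 1) + 1) % 4 = 2 by omega]
      norm_num; omega
    · rw [if_pos ⟨h2, h3⟩] at h
      rw [show (Nat.card F ^ (m + 1) + 1) % 4 = 0 by omega]
      norm_num; omega

/-- The minus type form in dimension four is tame (also over the field of two elements). -/
theorem tame_qMinus_one {a b : F}
    (hab : ∀ z₁ z₂ : F, z₁ ^ 2 + a * z₁ * z₂ + b * z₂ ^ 2 = 0 → z₁ = 0 ∧ z₂ = 0)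
    (hd : 4 * b - a ^ 2 ≠ 0) : Tame (qMinus 1 F a b) := by
  refine tame_of_no_line fun u w hu hw huw hu0 => ?_
  by_contra hwu
  have hI : IndexTwo (hyp (binF a b)) := IndexTwo.congr ⟨u, w, hu, hw, huw, hu0, hwu⟩
    ((minusIso 1 F a b).trans ((hypNSucc 0 (binF a b)).trans (hypCongr (hypNZero (binF a b)))))
  obtain ⟨x, y, hxy, h1, h2, -, -⟩ := hI.exists_hypPair_orth
    (hyp_nondegenerate (binF_nondegenerate hd)) isHypPair_hyp
  have h3 := hxy.left
  simp only [polar_hyp, hyp_apply, one_mul, zero_mul, add_zero, zero_add, polar_zero_left] at h1 h2 h3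
  rw [h1, mul_zero, zero_add] at h3
  exact hxy.ne_zero (Prod.ext h2 (Prod.ext h1 (binF_eq_zero hab h3)))

end CL.Orth
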