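import Cfsg.Agent.Orth.Bridge

/-!
# The action of `Ω` on singular points; centre, perfectness and simplicity
-/

set_option autoImplicit false

namespace CL.Orth

open QuadraticMap Module
open scoped LinearAlgebra.Projectivization Pointwise commutatorElement

variable {F V : Type*} [Field F] [AddCommGroup V] [Module F V] {Q : QuadraticForm F V}

theorem isHypPair_inv_smul {x y : V} (hx : Q x = 0) (hy : Q y = 0) (h : polar Q x y ≠ 0) :
    IsHypPair Q x ((polar Q x y)⁻¹ • y) :=
  ⟨hx, by qsimp [hy]; ring, by rw [polar_smul_right', inv_mul_cancel₀ h]⟩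

/-- The Eichler group of `u` is transitive on the singular points not orthogonal to `u`. -/
theorem exists_eich_apply_eq_smul {u x y : V} (hu : Q u = 0) (hx : Q x = 0) (hy : Q y = 0)
    (hux : polar Q u x ≠ 0) (huy : polar Q u y ≠ 0) :
    ∃ w, polar Q u w = 0 ∧ (eich Q u w).1 x = (polar Q u x / polar Q u y) • y := by
  obtain ⟨w, h1, -, h2⟩ := (isHypPair_inv_smul hu hy huy).exists_eich_move hux
  refine ⟨w, h1, ?_⟩
  rw [h2, hx, zero_div, zero_smul, zero_add, smul_smul, div_eq_mul_inv]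

theorem not_mem_span_symm {x y : V} (hx : x ≠ 0) (h : y ∉ Submodule.span F {x}) :
    x ∉ Submodule.span F {y} := by
  intro hxy
  obtain ⟨c, rfl⟩ := Submodule.mem_span_singleton.1 hxy
  have hc : c ≠ 0 := by rintro rfl; exact hx (zero_smul _ _)
  exact h (Submodule.mem_span_singleton.2 ⟨c⁻¹, by rw [smul_smul, inv_mul_cancel₀ hc, one_smul]⟩)

/-- The subgroup of Eichler transformations with centre `u`. -/
def eichGrp (Q : QuadraticForm F V) (u : V) : Subgroup (O Q) where
  carrier := {g | ∃ w, polar Q u w = 0 ∧ g = eich Q u w}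
  mul_mem' := by
    rintro _ _ ⟨w, hw, rfl⟩ ⟨w', hw', rfl⟩
    refine ⟨w + w', by rw [polar_add_right, hw, hw', add_zero], ?_⟩
    by_cases hu : Q u = 0
    · rw [eich_add hu hw hw']
    · rw [eich_of_not fun h => hu h.1, eich_of_not fun h => hu h.1, eich_of_not fun h => hu h.1,
        mul_one]
  one_mem' := ⟨0, polar_zero_right _ _, (eich_zero u).symm⟩
  inv_mem' := by
    rintro _ ⟨w, hw, rfl⟩
    exact ⟨-w, by rw [polar_neg_right, hw, neg_zero], (eich_neg u w).symm⟩

theorem mem_eichGrp {u : V} {g : O Q} :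
    g ∈ eichGrp Q u ↔ ∃ w, polar Q u w = 0 ∧ g = eich Q u w := Iff.rfl

theorem eich_mem_eichGrp (u w : V) : eich Q u w ∈ eichGrp Q u := by
  by_cases h : Q u = 0 ∧ polar Q u w = 0
  · exact ⟨w, h.2, rfl⟩
  · rw [eich_of_not h]; exact Subgroup.one_mem _

theorem eichGrp_le_E (u : V) : eichGrp Q u ≤ E Q := by
  rintro _ ⟨w, -, rfl⟩
  exact eich_mem_E u w

theorem eichGrp_smul {a : F} (ha : a ≠ 0) (u : V) : eichGrp Q (a • u) = eichGrp Q u := by
  apply le_antisymm
  · rintro _ ⟨w, -, rfl⟩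
    rw [eich_smul_left ha]; exact eich_mem_eichGrp _ _
  · rintro _ ⟨w, -, rfl⟩
    have : eich Q u w = eich Q (a • u) (a⁻¹ • w) := by
      rw [eich_smul_left ha, smul_smul, mul_inv_cancel₀ ha, one_smul]
    rw [this]; exact eich_mem_eichGrp _ _

theorem conj_mem_eichGrp_iff (g k : O Q) (u : V) :
    g * k * g⁻¹ ∈ eichGrp Q (g.1 u) ↔ k ∈ eichGrp Q u := by
  constructor
  · rintro ⟨w, -, hw⟩
    have : k = g⁻¹ * eich Q (g.1 u) w * g⁻¹⁻¹ := by rw [← hw]; group
    rw [this, eich_conj, O_inv_apply_apply]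
    exact eich_mem_eichGrp _ _
  · rintro ⟨w, -, rfl⟩
    rw [eich_conj]; exact eich_mem_eichGrp _ _

/-! ### Singular points -/

/-- The singular points of the projective space. -/
def singPts (Q : QuadraticForm F V) : SubMulAction (O Q) (ℙ F V) where
  carrier := {p | Q p.rep = 0}
  smul_mem' g p hp := by
    show Q (g • p).rep = 0
    have h1 : g • p = Projectivization.mk F (g.1 p.rep)
        ((O_apply_eq_zero_iff g _).not.2 p.rep_nonzero) := by
      conv_lhs => rw [← p.mk_rep]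
      rfl
    obtain ⟨a, ha⟩ := Projectivization.exists_smul_eq_mk_rep F (g.1 p.rep)
      ((O_apply_eq_zero_iff g _).not.2 p.rep_nonzero)
    rw [h1, ← ha, Units.smul_def, Q_smul, O_map, show Q p.rep = 0 from hp, mul_zero]

theorem mk_mem_singPts {x : V} (hx0 : x ≠ 0) : Projectivization.mk F x hx0 ∈ singPts Q ↔ Q x = 0 := by
  show Q (Projectivization.mk F x hx0).rep = 0 ↔ _
  obtain ⟨a, ha⟩ := Projectivization.exists_smul_eq_mk_rep F x hx0
  rw [← ha, Units.smul_def, Q_smul]
  simp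

/-- The singular point spanned by a singular vector. -/
def pt (x : V) (hx0 : x ≠ 0) (hx : Q x = 0) : singPts Q :=
  ⟨Projectivization.mk F x hx0, (mk_mem_singPts hx0).2 hx⟩

theorem exists_pt (p : singPts Q) : ∃ x hx0 hx, p = pt x hx0 hx :=
  ⟨p.1.rep, p.1.rep_nonzero, p.2, Subtype.ext p.1.mk_rep.symm⟩

theorem smul_pt (g : O Q) (x : V) (hx0 : x ≠ 0) (hx : Q x = 0) :
    g • pt x hx0 hx = pt (g.1 x) ((O_apply_eq_zero_iff g _).not.2 hx0) (by rw [O_map, hx]) := rfl

theorem pt_eq_pt_iff {x y : V} (hx0 : x ≠ 0) (hx : Q x = 0) (hy0 : y ≠ 0) (hy : Q y = 0) :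
    pt x hx0 hx = pt y hy0 hy ↔ ∃ a : F, a • y = x := by
  rw [Subtype.ext_iff]
  exact Projectivization.mk_eq_mk_iff' F x y hx0 hy0

theorem smul_pt_eq_iff (g : O Q) {x y : V} (hx0 : x ≠ 0) (hx : Q x = 0) (hy0 : y ≠ 0)
    (hy : Q y = 0) : g • pt x hx0 hx = pt y hy0 hy ↔ ∃ a : F, a • y = g.1 x := by
  rw [smul_pt, pt_eq_pt_iff]

theorem eichGrp_rep_pt (x : V) (hx0 : x ≠ 0) (hx : Q x = 0) :
    eichGrp Q (pt x hx0 hx).1.rep = eichGrp Q x := by
  obtain ⟨a, ha⟩ := Projectivization.exists_smul_eq_mk_rep F x hx0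
  show eichGrp Q (Projectivization.mk F x hx0).rep = _
  rw [← ha, Units.smul_def, eichGrp_smul a.ne_zero]

variable [FiniteDimensional F V]

theorem exists_nonsingular_orth (hQ : Q.polarBilin.Nondegenerate) (h3 : 3 ≤ finrank F V) {u : V}
    (hu : Q u = 0) (hu0 : u ≠ 0) : ∃ w, polar Q u w = 0 ∧ Q w ≠ 0 := by
  obtain ⟨v, hv, huv⟩ := exists_hyp_partner' hQ hu hu0
  obtain ⟨w, h1, -, h2⟩ := IsHypPair.exists_nonsingular hQ ⟨hu, hv, huv⟩ h3
  exact ⟨w, h1, h2⟩

theorem exists_singular_nonorth_of_orth (hQ : Q.polarBilin.Nondegenerate) {x y : V}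
    (hx : Q x = 0) (hx0 : x ≠ 0) (hy0 : y ≠ 0) (hxy : polar Q x y = 0) :
    ∃ z, Q z = 0 ∧ polar Q x z ≠ 0 ∧ polar Q y z ≠ 0 := by
  by_cases h : y ∈ Submodule.span F {x}
  · obtain ⟨c, rfl⟩ := Submodule.mem_span_singleton.1 h
    have hc : c ≠ 0 := by rintro rfl; exact hy0 (zero_smul _ _)
    obtain ⟨z, hz, hxz⟩ := exists_hyp_partner' hQ hx hx0
    exact ⟨z, hz, by rw [hxz]; exact one_ne_zero, by rw [polar_smul_left', hxz, mul_one]; exact hc⟩
  · obtain ⟨a, ha1, ha2⟩ := exists_polar_eq_one_span hQ h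
    obtain ⟨b, hb1, hb2⟩ := exists_polar_eq_one_span hQ (not_mem_span_symm hx0 h)
    have h1 := ha1 x rfl
    have h2 := hb1 y rfl
    refine ⟨(a + b) - Q (a + b) • x, ?_, ?_, ?_⟩
    · rw [Q_sub, Q_smul, hx, polar_smul_right', polar_comm, polar_add_right, h1, hb2]; ring
    · rw [polar_sub_right, polar_smul_right', polar_self', hx, polar_add_right, h1, hb2]; simp
    · rw [polar_sub_right, polar_smul_right', polar_comm Q y x, hxy, polar_add_right, h2, ha2]; simp

/-- Two singular points have a common non-orthogonal singular point (dimension at least three). -/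
theorem exists_singular_nonorth (hQ : Q.polarBilin.Nondegenerate) (h3 : 3 ≤ finrank F V) {x y : V}
    (hx : Q x = 0) (hx0 : x ≠ 0) (hy : Q y = 0) (hy0 : y ≠ 0) :
    ∃ z, Q z = 0 ∧ polar Q x z ≠ 0 ∧ polar Q y z ≠ 0 := by
  by_cases hxy : polar Q x y = 0
  · exact exists_singular_nonorth_of_orth hQ hx hx0 hy0 hxy
  · have h := isHypPair_inv_smul hx hy hxy
    obtain ⟨w, h1, h2, h4⟩ := h.exists_nonsingular hQ h3
    have h5 : polar Q y w = 0 := by
      rw [polar_smul_left'] at h2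
      simpa [hxy] using h2
    refine ⟨-(Q w • x) + (polar Q x y)⁻¹ • y + w, ?_, ?_, ?_⟩
    · qsimp [hx, hy, h1, h5]; field_simp; ring
    · qsimp [hx, hy, h1, h5]; simpa using hxy
    · qsimp [hx, hy, h1, h5, polar_comm Q y x]; simpa using ⟨h4, hxy⟩

/-- The Eichler subgroup is transitive on singular points. -/
theorem exists_E_apply_eq_smul (hQ : Q.polarBilin.Nondegenerate) (h3 : 3 ≤ finrank F V) {x y : V}
    (hx : Q x = 0) (hx0 : x ≠ 0) (hy : Q y = 0) (hy0 : y ≠ 0) :
    ∃ e ∈ E Q, ∃ c : F, c ≠ 0 ∧ e.1 x = c • y := by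
  obtain ⟨z, hz, h1, h2⟩ := exists_singular_nonorth hQ h3 hx hx0 hy hy0
  rw [polar_comm] at h1 h2
  obtain ⟨w, -, hw⟩ := exists_eich_apply_eq_smul hz hx hy h1 h2
  exact ⟨_, eich_mem_E _ _, _, div_ne_zero h1 h2, hw⟩

/-- `O Q` is transitive on hyperbolic pairs. -/
theorem exists_O_hypPair (hQ : Q.polarBilin.Nondegenerate) {u v u' v' : V} (h : IsHypPair Q u v)
    (h' : IsHypPair Q u' v') : ∃ g : O Q, g.1 u = u' ∧ g.1 v = v' := by
  obtain ⟨g, hg⟩ := exists_O_apply_eq hQ h.ne_zero h'.ne_zero (h.left.trans h'.left.symm)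
  have h1 : polar Q u' (g.1 v) = 1 := by rw [← hg, O_polar, h.pol]
  obtain ⟨w, -, hw⟩ := exists_eich_apply_eq_smul h'.left (x := g.1 v) (by rw [O_map, h.right])
    h'.right (by rw [h1]; exact one_ne_zero) (by rw [h'.pol]; exact one_ne_zero)
  refine ⟨eich Q u' w * g, by rw [O_mul_apply, hg, eich_apply_self], ?_⟩
  rw [O_mul_apply, hw, h1, h'.pol, div_one, one_smul]

/-- If the orthogonal complement of a hyperbolic pair represents every non-zero scalar, every coset of
the Eichler subgroup meets the stabiliser of the pair. -/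
theorem exists_fix_mul_mem_E (hQ : Q.polarBilin.Nondegenerate) {u v : V} (h : IsHypPair Q u v)
    (hrep : ∀ c : F, c ≠ 0 → ∃ w, polar Q u w = 0 ∧ polar Q v w = 0 ∧ Q w = c) (g : O Q) :
    ∃ k : O Q, k.1 u = u ∧ k.1 v = v ∧ g * k ∈ E Q := by
  have h3 : 3 ≤ finrank F V := by
    obtain ⟨w, h1, h2, h4⟩ := hrep 1 one_ne_zero
    have hw : w ∉ Submodule.span F {u, v} := fun hw => by
      rw [h.eq_zero_of_orth hw h1 h2, map_zero] at h4
      exact zero_ne_one h4
    have h5 := finrank_span_pair h.ne_zero h.not_mem_span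
    have h6 : Submodule.span F {u, v} < ⊤ := lt_top_iff_ne_top.2 fun h => hw (h ▸ trivial)
    have := Submodule.finrank_lt_finrank_of_lt h6
    rw [finrank_top] at this
    omega
  let S : Subgroup (O Q) := MulAction.stabilizer (O Q) u ⊓ MulAction.stabilizer (O Q) v
  have := O_gen hQ ((S.map (QuotientGroup.mk' (E Q))).comap (QuotientGroup.mk' (E Q)))
    (fun x hx => by
      obtain ⟨w, h1, h2, h4⟩ := hrep _ hx
      refine ⟨refl Q w, ⟨?_, ?_⟩, ?_⟩
      · exact refl_apply_of_orth (by rw [polar_comm, h1])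
      · exact refl_apply_of_orth (by rw [polar_comm, h2])
      · exact h.mk_refl_eq hQ h3 hx one_ne_zero (by rw [h4]; ring))
    (fun x y _ _ _ => by
      rw [Subgroup.mem_comap, QuotientGroup.mk'_apply,
        (QuotientGroup.eq_one_iff _).2 (eich_mem_E x y)]
      exact Subgroup.one_mem _)
  have hg : g⁻¹ ∈ (S.map (QuotientGroup.mk' (E Q))).comap (QuotientGroup.mk' (E Q)) := by
    rw [this]; trivial
  obtain ⟨k, ⟨hk1, hk2⟩, hk⟩ := hg
  refine ⟨k, hk1, hk2, ?_⟩
  have := QuotientGroup.eq.1 hk.symm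
  rwa [inv_inv] at this

/-- Witt index at least two. -/
def IndexTwo (Q : QuadraticForm F V) : Prop :=
  ∃ a b, Q a = 0 ∧ Q b = 0 ∧ polar Q a b = 0 ∧ a ≠ 0 ∧ b ∉ Submodule.span F {a}

omit [FiniteDimensional F V] in
theorem IndexTwo.exists_orth (h : IndexTwo Q) (u : V) :
    ∃ y, Q y = 0 ∧ polar Q u y = 0 ∧ y ∉ Submodule.span F {u} ∨ Q u ≠ 0 := by
  by_cases hu : Q u = 0
  swap
  · exact ⟨0, Or.inr hu⟩
  obtain ⟨a, b, ha, hb, hab, ha0, hba⟩ := h
  have hli : ∀ s t : F, s • a + t • b = 0 → s = 0 ∧ t = 0 := by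
    intro s t hst
    by_cases ht : t = 0
    · rw [ht, zero_smul, add_zero, smul_eq_zero] at hst
      exact ⟨hst.resolve_right ha0, ht⟩
    · exact absurd (Submodule.mem_span_singleton.2 ⟨-(t⁻¹ * s), by
        have : b = t⁻¹ • (t • b) := by rw [smul_smul, inv_mul_cancel₀ ht, one_smul]
        rw [this, eq_neg_of_add_eq_zero_right hst]
        module⟩) hba
  have key : ∀ c d : V, Q c = 0 → Q d = 0 → polar Q u c = 0 → polar Q u d = 0 → c ≠ 0 →
      d ∉ Submodule.span F {c} → ∃ y, Q y = 0 ∧ polar Q u y = 0 ∧ y ∉ Submodule.span F {u} ∨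
        Q u ≠ 0 := by
    intro c d hc hd huc hud hc0 hdc
    by_cases h1 : c ∈ Submodule.span F {u}
    · refine ⟨d, Or.inl ⟨hd, hud, fun h2 => hdc ?_⟩⟩
      obtain ⟨s, rfl⟩ := Submodule.mem_span_singleton.1 h1
      obtain ⟨t, rfl⟩ := Submodule.mem_span_singleton.1 h2
      have hs : s ≠ 0 := by rintro rfl; exact hc0 (zero_smul _ _)
      exact Submodule.mem_span_singleton.2 ⟨t / s, by rw [smul_smul, div_mul_cancel₀ _ hs]⟩
    · exact ⟨c, Or.inl ⟨hc, huc, h1⟩⟩
  by_cases h1 : polar Q u a = 0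
  · by_cases h2 : polar Q u b = 0
    · exact key a b ha hb h1 h2 ha0 hba
    · refine ⟨a, Or.inl ⟨ha, h1, fun h3 => h2 ?_⟩⟩
      obtain ⟨s, rfl⟩ := Submodule.mem_span_singleton.1 h3
      have hs : s ≠ 0 := by rintro rfl; exact ha0 (zero_smul _ _)
      rw [polar_smul_left'] at hab
      exact (mul_eq_zero.1 hab).resolve_left hs
  · refine ⟨polar Q u b • a - polar Q u a • b, Or.inl ⟨by qsimp [ha, hb, hab]; ring,
      by qsimp; ring, fun h3 => ?_⟩⟩
    obtain ⟨s, hs⟩ := Submodule.mem_span_singleton.1 h3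
    have h4 : polar Q (s • u) a = 0 := by
      rw [hs]; qsimp [ha, polar_comm Q b a, hab]; ring
    rw [polar_smul_left', mul_eq_zero] at h4
    rw [h4.resolve_right h1, zero_smul] at hs
    have := hli (polar Q u b) (-polar Q u a) (by rw [neg_smul, ← sub_eq_add_neg, ← hs])
    exact h1 (neg_eq_zero.1 this.2)

omit [FiniteDimensional F V] in
theorem IndexTwo.exists_orth' (h : IndexTwo Q) {u : V} (hu : Q u = 0) :
    ∃ y, Q y = 0 ∧ polar Q u y = 0 ∧ y ∉ Submodule.span F {u} := by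
  obtain ⟨y, hy⟩ := h.exists_orth u
  exact ⟨y, hy.resolve_right (not_not.2 hu)⟩

/-- In Witt index at least two the complement of a hyperbolic pair contains a hyperbolic pair. -/
theorem IndexTwo.exists_hypPair_orth (hQ : Q.polarBilin.Nondegenerate) (h : IndexTwo Q) {u v : V}
    (huv : IsHypPair Q u v) : ∃ x y, IsHypPair Q x y ∧ polar Q u x = 0 ∧ polar Q v x = 0 ∧
      polar Q u y = 0 ∧ polar Q v y = 0 := by
  obtain ⟨y, hy, huy, hyu⟩ := h.exists_orth' huv.left
  have h1 : Q (y - polar Q v y • u) = 0 := by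
    qsimp [hy, huv.left, polar_comm Q y u, huy]; ring
  have h2 : polar Q u (y - polar Q v y • u) = 0 := by qsimp [huy, huv.left]; ring
  have h3 : polar Q v (y - polar Q v y • u) = 0 := by qsimp [huv.pol']; ring
  have h4 : y - polar Q v y • u ∉ Submodule.span F {u, v} := fun hm => hyu (by
    have := huv.eq_zero_of_orth hm h2 h3
    exact Submodule.mem_span_singleton.2 ⟨_, (sub_eq_zero.1 this).symm⟩)
  obtain ⟨z, hz1, hz2, hz3⟩ := exists_hyp_partner hQ h1 h4 (fun s hs => by
    obtain ⟨a, b, rfl⟩ := Submodule.mem_span_pair.1 hs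
    rw [polar_add_left, polar_smul_left', polar_smul_left', h2, h3]; ring)
  exact ⟨_, z, ⟨h1, hz1, hz2⟩, h2, h3, hz3 u (Submodule.subset_span (by simp)),
    hz3 v (Submodule.subset_span (by simp))⟩

/-- In Witt index at least two the Eichler subgroup is transitive on hyperbolic pairs. -/
theorem IndexTwo.exists_E_hypPair (hQ : Q.polarBilin.Nondegenerate) (hI : IndexTwo Q)
    {u v u' v' : V} (h : IsHypPair Q u v) (h' : IsHypPair Q u' v') :
    ∃ e ∈ E Q, e.1 u = u' ∧ e.1 v = v' := by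
  obtain ⟨g, hg1, hg2⟩ := exists_O_hypPair hQ h h'
  obtain ⟨x, y, hxy, h1, h2, h3, h4⟩ := hI.exists_hypPair_orth hQ h
  obtain ⟨k, hk1, hk2, hk⟩ := exists_fix_mul_mem_E hQ h (fun c _ =>
    ⟨(1 : F) • x + c • y, by qsimp [h1, h3]; ring, by qsimp [h2, h4]; ring,
      by rw [hxy.Q_comb, one_mul]⟩) g
  exact ⟨g * k, hk, by rw [O_mul_apply, hk1, hg1], by rw [O_mul_apply, hk2, hg2]⟩

/-- In Witt index at least two the Eichler subgroup is transitive on non-zero singular vectors. -/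
theorem IndexTwo.exists_E_apply_eq (hQ : Q.polarBilin.Nondegenerate) (hI : IndexTwo Q)
    {x y : V} (hx : Q x = 0) (hx0 : x ≠ 0) (hy : Q y = 0) (hy0 : y ≠ 0) :
    ∃ e ∈ E Q, e.1 x = y := by
  obtain ⟨v, hv, hxv⟩ := exists_hyp_partner' hQ hx hx0
  obtain ⟨w, hw, hyw⟩ := exists_hyp_partner' hQ hy hy0
  obtain ⟨e, he, h1, -⟩ := hI.exists_E_hypPair hQ ⟨hx, hv, hxv⟩ ⟨hy, hw, hyw⟩
  exact ⟨e, he, h1⟩

/-! ### Centre -/

/-- An isometry fixing all singular points is `± 1`. -/
theorem eq_one_or_negO_of_fix_points (hQ : Q.polarBilin.Nondegenerate) (h3 : 3 ≤ finrank F V)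
    {u : V} (hu : Q u = 0) (hu0 : u ≠ 0) {z : O Q}
    (hz : ∀ x, Q x = 0 → x ≠ 0 → ∃ c : F, z.1 x = c • x) : z = 1 ∨ z = negO Q := by
  obtain ⟨v, hv, huv⟩ := exists_hyp_partner' hQ hu hu0
  have h : IsHypPair Q u v := ⟨hu, hv, huv⟩
  obtain ⟨a, ha⟩ := hz u hu hu0
  obtain ⟨b, hb⟩ := hz v hv h.symm.ne_zero
  have hab : a * b = 1 := by
    have := O_polar z u v
    rw [ha, hb] at this
    qsimp [huv] at this
    linear_combination this
  have key : ∀ w, polar Q u w = 0 → polar Q v w = 0 → z.1 w = b • w ∧ a * Q w = b * Q w := by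
    intro w h1 h2
    have h4 : polar Q u (-(Q w • u) + v + w) = 1 := by qsimp [hu, huv, h1]; ring
    obtain ⟨c, hc⟩ := hz (-(Q w • u) + v + w) (by qsimp [hu, hv, huv, h1, h2]; ring) (by
      intro h0; rw [h0, polar_zero_right] at h4; exact zero_ne_one h4)
    have h5 := O_polar z u (-(Q w • u) + v + w)
    rw [hc, ha, polar_smul_left', polar_smul_right', h4] at h5
    have hcb : c = b := by linear_combination b * h5 - c * hab
    have h6 := O_polar z v (-(Q w • u) + v + w)
    rw [hc, hb, hcb] at h6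
    qsimp [hv, h.pol', h2] at h6
    have h7 : a * Q w = b * Q w := by linear_combination a * h6 + b * Q w * hab
    rw [map_add, map_add, map_neg, map_smul, ha, hb, hcb, smul_smul, mul_comm, h7] at hc
    refine ⟨?_, h7⟩
    have : z.1 w = b • (-(Q w • u) + v + w) - (-((b * Q w) • u) + b • v) := by rw [← hc]; abel
    rw [this]; module
  obtain ⟨w, h1, h2, h4⟩ := h.exists_nonsingular hQ h3
  have hab' : a = b := mul_right_cancel₀ h4 (key w h1 h2).2
  have hall : ∀ x, z.1 x = b • x := by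
    intro x
    have h5 := (key _ (h.polar_left_proj x) (h.polar_right_proj x)).1
    rw [map_sub, map_sub, map_smul, map_smul, ha, hb, hab'] at h5
    have : z.1 x = b • (x - polar Q v x • u - polar Q u x • v) + polar Q v x • b • u +
      polar Q u x • b • v := by rw [← h5]; abel
    rw [this]; module
  rw [hab', mul_self_eq_one_iff] at hab
  rcases hab with rfl | rfl
  · exact Or.inl (O_ext fun x => by rw [hall, one_smul, O_one_apply])
  · exact Or.inr (O_ext fun x => by rw [hall, neg_smul, one_smul, negO_apply])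

theorem apply_eq_smul_of_commute_eich (hQ : Q.polarBilin.Nondegenerate) {z : O Q} {u w : V}
    (hu : Q u = 0) (huw : polar Q u w = 0) (hw : Q w ≠ 0)
    (hc : z * eich Q u w = eich Q u w * z) : ∃ c : F, z.1 u = c • u := by
  have h1 : eich Q (z.1 u) (z.1 w) = eich Q u w := by rw [← eich_conj, hc, mul_inv_cancel_right]
  have h2 : z.1 w ∉ Submodule.span F {z.1 u} := by
    intro h
    obtain ⟨c, hc⟩ := Submodule.mem_span_singleton.1 h
    apply hw
    rw [← O_map z w, ← hc, Q_smul, O_map, hu, mul_zero]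
  obtain ⟨x, hx1, hx2⟩ := exists_polar_eq_one_span hQ h2
  have h3 := congrArg (fun g : O Q => g.1 x) h1
  rw [eich_apply_of_orth_left (by rw [O_map, hu]) (by rw [O_polar, huw]) (hx1 _ rfl), hx2,
    eich_apply hu huw, one_smul] at h3
  have h4 : z.1 u = (polar Q w x + Q w * polar Q u x) • u - polar Q u x • w := by
    have : z.1 u = x - (x - z.1 u) := by abel
    rw [this, h3]; module
  have h5 := O_map z u
  rw [h4] at h5
  qsimp [hu, huw] at h5
  have h6 : polar Q u x = 0 := by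
    have : polar Q u x * polar Q u x * Q w = 0 := by linear_combination h5
    simpa [hw] using this
  exact ⟨_, by rw [h4, h6, zero_smul, sub_zero]⟩

/-- The centraliser of the Eichler subgroup is `{± 1}`. -/
theorem eq_one_or_negO_of_commute (hQ : Q.polarBilin.Nondegenerate) (h3 : 3 ≤ finrank F V)
    {u : V} (hu : Q u = 0) (hu0 : u ≠ 0) {z : O Q} (hz : ∀ e ∈ E Q, e * z = z * e) :
    z = 1 ∨ z = negO Q := by
  refine eq_one_or_negO_of_fix_points hQ h3 hu hu0 fun x hx hx0 => ?_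
  obtain ⟨w, h1, h2⟩ := exists_nonsingular_orth hQ h3 hx hx0
  exact apply_eq_smul_of_commute_eich hQ hx h1 h2 (hz _ (eich_mem_E _ _)).symm

theorem mem_center_E_iff (hQ : Q.polarBilin.Nondegenerate) (h3 : 3 ≤ finrank F V)
    {u : V} (hu : Q u = 0) (hu0 : u ≠ 0) (z : E Q) :
    z ∈ Subgroup.center (E Q) ↔ z.1 = 1 ∨ z.1 = negO Q := by
  rw [Subgroup.mem_center_iff]
  constructor
  · intro h
    exact eq_one_or_negO_of_commute hQ h3 hu hu0 fun e he => congrArg Subtype.val (h ⟨e, he⟩)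
  · rintro (h | h) g <;> apply Subtype.ext <;> rw [Subgroup.coe_mul, Subgroup.coe_mul, h]
    · rw [mul_one, one_mul]
    · rw [negO_comm]

omit [FiniteDimensional F V] in
theorem negO_ne_one (h2 : (2 : F) ≠ 0) {u : V} (hu0 : u ≠ 0) : negO Q ≠ 1 := by
  intro h
  have := congrArg (fun g : O Q => g.1 u) h
  simp only [negO_apply, O_one_apply] at this
  rw [neg_eq_iff_add_eq_zero, ← two_smul F, smul_eq_zero] at this
  exact this.elim h2 hu0

omit [FiniteDimensional F V] in
theorem negO_eq_one (h2 : (2 : F) = 0) : negO Q = 1 :=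
  O_ext fun x => by
    rw [negO_apply, O_one_apply, neg_eq_iff_add_eq_zero, ← two_smul F, h2, zero_smul]

theorem card_center_E_of_mem (hQ : Q.polarBilin.Nondegenerate) (h3 : 3 ≤ finrank F V)
    {u : V} (hu : Q u = 0) (hu0 : u ≠ 0) (h2 : (2 : F) ≠ 0) (h : negO Q ∈ E Q) :
    Nat.card (Subgroup.center (E Q)) = 2 := by
  rw [Nat.card_eq_two_iff' (1 : Subgroup.center (E Q))]
  refine ⟨⟨⟨negO Q, h⟩, (mem_center_E_iff hQ h3 hu hu0 _).2 (Or.inr rfl)⟩, ?_, ?_⟩
  · intro h1
    exact negO_ne_one h2 hu0 (congrArg (fun x : Subgroup.center (E Q) => x.1.1) h1)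
  · intro y hy
    rcases (mem_center_E_iff hQ h3 hu hu0 _).1 y.2 with h1 | h1
    · exact absurd (Subtype.ext (Subtype.ext h1)) hy
    · exact Subtype.ext (Subtype.ext h1)

theorem center_E_eq_bot (hQ : Q.polarBilin.Nondegenerate) (h3 : 3 ≤ finrank F V)
    {u : V} (hu : Q u = 0) (hu0 : u ≠ 0) (h : (2 : F) = 0 ∨ negO Q ∉ E Q) :
    Subgroup.center (E Q) = ⊥ := by
  rw [eq_bot_iff]
  intro y hy
  rcases (mem_center_E_iff hQ h3 hu hu0 _).1 hy with h1 | h1
  · exact Subtype.ext h1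
  · rcases h with h | h
    · rw [negO_eq_one h] at h1; exact Subtype.ext h1
    · exact absurd (h1 ▸ y.2) h

/-! ### Primitivity -/

theorem E_isPretransitive (hQ : Q.polarBilin.Nondegenerate) (h3 : 3 ≤ finrank F V) :
    MulAction.IsPretransitive (E Q) (singPts Q) := by
  refine ⟨fun p q => ?_⟩
  obtain ⟨x, hx0, hx, rfl⟩ := exists_pt p
  obtain ⟨y, hy0, hy, rfl⟩ := exists_pt q
  obtain ⟨e, he, c, -, hc⟩ := exists_E_apply_eq_smul hQ h3 hx hx0 hy hy0
  exact ⟨⟨e, he⟩, (smul_pt_eq_iff e hx0 hx hy0 hy).2 ⟨c, hc.symm⟩⟩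

theorem E_isPreprimitive (hQ : Q.polarBilin.Nondegenerate) (h5 : 5 ≤ finrank F V) :
    MulAction.IsPreprimitive (E Q) (singPts Q) := by
  have := E_isPretransitive hQ (by omega : 3 ≤ finrank F V)
  refine ⟨fun {B} hB => ?_⟩
  rw [MulAction.isBlock_iff_smul_eq_of_mem] at hB
  have hB' : ∀ (e : O Q), e ∈ E Q → ∀ p ∈ B, e • p = p → ∀ q ∈ B, e • q ∈ B := by
    intro e he p hp hep q hq
    have := hB (g := ⟨e, he⟩) hp (by rw [Subgroup.mk_smul, hep]; exact hp)
    rw [← this]
    exact Set.smul_mem_smul_set hq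
  -- two non-orthogonal points in `B` give all points not orthogonal to one of them
  have step : ∀ u hu0 hu x hx0 hx, pt u hu0 hu ∈ B → pt x hx0 hx ∈ B → polar Q u x ≠ 0 →
      ∀ y hy0 hy, polar Q u y ≠ 0 → pt y hy0 hy ∈ B := by
    intro u hu0 hu x hx0 hx h1 h2 hux y hy0 hy huy
    obtain ⟨w, -, hw⟩ := exists_eich_apply_eq_smul hu hx hy hux huy
    have := hB' _ (eich_mem_E u w) _ h1 ((smul_pt_eq_iff _ hu0 hu hu0 hu).2
      ⟨1, by rw [eich_apply_self, one_smul]⟩) _ h2
    rwa [(smul_pt_eq_iff _ hx0 hx hy0 hy).2 ⟨_, hw.symm⟩] at this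
  have step2 : ∀ u hu0 hu x hx0 hx, pt u hu0 hu ∈ B → pt x hx0 hx ∈ B → polar Q u x ≠ 0 →
      B = Set.univ := by
    intro u hu0 hu x hx0 hx h1 h2 hux
    rw [Set.eq_univ_iff_forall]
    intro q
    obtain ⟨y, hy0, hy, rfl⟩ := exists_pt q
    obtain ⟨z, hz, h3, h4⟩ := exists_singular_nonorth hQ (by omega) hu hu0 hy hy0
    have hz0 : z ≠ 0 := by rintro rfl; exact h3 (polar_zero_right _ _)
    exact step z hz0 hz u hu0 hu (step u hu0 hu x hx0 hx h1 h2 hux z hz0 hz h3) h1
      (by rwa [polar_comm]) y hy0 hy (by rwa [polar_comm])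
  by_cases hs : B.Subsingleton
  · exact Or.inl hs
  right
  rw [Set.not_subsingleton_iff] at hs
  obtain ⟨p, hp, q, hq, hpq⟩ := hs
  obtain ⟨u, hu0, hu, rfl⟩ := exists_pt p
  obtain ⟨x, hx0, hx, rfl⟩ := exists_pt q
  by_cases hux : polar Q u x = 0
  swap
  · exact step2 u hu0 hu x hx0 hx hp hq hux
  have hxu : x ∉ Submodule.span F {u} := fun h =>
    hpq ((pt_eq_pt_iff hx0 hx hu0 hu).2 (Submodule.mem_span_singleton.1 h)).symm
  obtain ⟨y, hy, hxy, huy⟩ := exists_hyp_partner hQ hx hxu (fun s hs => by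
    obtain ⟨c, rfl⟩ := Submodule.mem_span_singleton.1 hs
    rw [polar_smul_left', hux, mul_zero])
  have huy' : polar Q u y = 0 := huy u (Submodule.mem_span_singleton_self u)
  obtain ⟨w, hw, hw0⟩ : ∃ w ∈ perp Q (Submodule.span F {u, x, y}), Q w ≠ 0 := by
    by_contra hc
    push Not at hc
    have h1 : perp Q (Submodule.span F {u, x, y}) ≤ Submodule.span F {u} := by
      intro s hs
      have h2 : s ∈ Submodule.span F {u, x, y} := by
        rw [← perp_perp hQ (Submodule.span F {u, x, y})]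
        intro t ht
        rw [polarBilin_apply_apply, polar, hc _ (Submodule.add_mem _ ht hs), hc _ ht, hc _ hs]
        ring
      obtain ⟨a, b, c, rfl⟩ := Submodule.mem_span_triple.1 h2
      rw [mem_perp_span] at hs
      have h3 := hs x (by simp)
      have h4 := hs y (by simp)
      qsimp [hx, hy, polar_comm Q x u, polar_comm Q y u, polar_comm Q y x, hux, huy', hxy] at h3 h4
      have hb : b = 0 := by linear_combination h4
      have hc : c = 0 := by linear_combination h3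
      exact Submodule.mem_span_singleton.2 ⟨a, by simp [hb, hc]⟩
    have h2 := Submodule.finrank_mono h1
    have h3 := finrank_perp_add hQ (Submodule.span F {u, x, y})
    have h4 := finrank_span_triple_le (F := F) u x y
    rw [finrank_span_singleton hu0] at h2
    omega
  rw [mem_perp_span] at hw
  have hwu := hw u (by simp)
  have hwx := hw x (by simp)
  have hwy := hw y (by simp)
  have h1 := hB' _ (eich_mem_E y w) _ hp ((smul_pt_eq_iff _ hu0 hu hu0 hu).2
    ⟨1, by rw [eich_apply_of_orth (by rwa [polar_comm]) (by rwa [polar_comm]), one_smul]⟩) _ hq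
  rw [smul_pt] at h1
  refine step2 x hx0 hx _ _ _ hq h1 ?_
  rw [eich_apply hy hwy]
  qsimp [hx, hwx, hxy, polar_comm Q y x, polar_comm Q w x]
  simpa using hw0

/-! ### Perfectness and simplicity -/

/-- For `n ≥ 5` a Siegel transformation is a commutator of two Eichler transformations. -/
theorem exists_siegel_eq_commutator (hQ : Q.polarBilin.Nondegenerate) (h5 : 5 ≤ finrank F V)
    {u x : V} (hu : Q u = 0) (hx : Q x = 0) (hux : polar Q u x = 0) :
    ∃ z w, eich Q u x = ⁅eich Q x z, eich Q u w⁆ := by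
  have h1 := finrank_perp_add hQ (Submodule.span F {u, x})
  have h2 := finrank_span_pair_le (F := F) u x
  obtain ⟨z, hz1, hz2⟩ : ∃ z ∈ perp Q (Submodule.span F {u, x}), z ∉ Submodule.span F {u, x} := by
    by_contra hc
    push Not at hc
    have := Submodule.finrank_mono (show perp Q _ ≤ _ from hc)
    omega
  obtain ⟨w, hw1, hw2⟩ := exists_polar_eq_one_span hQ hz2
  rw [mem_perp_span] at hz1
  have huz := hz1 u (by simp)
  have hxz := hz1 x (by simp)
  have huw := hw1 u (by simp)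
  have hxw := hw1 x (by simp)
  have h3 : polar Q x (-z) = 0 := by rw [polar_neg_right, hxz, neg_zero]
  refine ⟨-z, w, ?_⟩
  rw [commutatorElement_def, eich_conj, eich_apply_of_orth (by rwa [polar_comm])
    (by rw [polar_neg_left, polar_comm, huz, neg_zero]), eich_apply_of_orth_left hx h3 hxw,
    polar_neg_left, hw2, ← eich_sub hu (by qsimp [huw, hux]; ring) huw]
  congr 1
  simp

/-- In Witt index at least two the Siegel transformations with centre `u` generate the Eichler
group of `u`. -/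
theorem IndexTwo.eich_mem_of_siegel (hQ : Q.polarBilin.Nondegenerate) (hI : IndexTwo Q)
    (K : Subgroup (O Q)) {u : V} (hu : Q u = 0)
    (h : ∀ x, Q x = 0 → polar Q u x = 0 → eich Q u x ∈ K) {w : V} (huw : polar Q u w = 0) :
    eich Q u w ∈ K := by
  obtain ⟨y, hy, huy, hyu⟩ := hI.exists_orth' hu
  obtain ⟨y', hy', hyy', huy'⟩ := exists_hyp_partner hQ hy hyu (fun s hs => by
    obtain ⟨c, rfl⟩ := Submodule.mem_span_singleton.1 hs
    rw [polar_smul_left', huy, mul_zero])
  have huy'' : polar Q u y' = 0 := huy' u (Submodule.mem_span_singleton_self u)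
  have key : ∀ w, polar Q u w = 0 → polar Q y w ≠ 0 → eich Q u w ∈ K := by
    intro w huw hyw
    have h1 : polar Q u ((Q w / polar Q y w) • y) = 0 := by qsimp [huy]; ring
    have h2 : polar Q u (w - (Q w / polar Q y w) • y) = 0 := by
      rw [polar_sub_right, huw, h1, sub_zero]
    rw [← sub_add_cancel w ((Q w / polar Q y w) • y), eich_add hu h2 h1]
    refine K.mul_mem (h _ ?_ h2) (h _ (by qsimp [hy]; ring) h1)
    qsimp [hy, polar_comm Q w y]
    field_simp; ring
  by_cases hyw : polar Q y w = 0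
  · have h1 : polar Q u (w + y') = 0 := by rw [polar_add_right, huw, huy'', add_zero]
    rw [← add_sub_cancel_right w y', eich_sub hu h1 huy'']
    exact K.mul_mem (key _ h1 (by rw [polar_add_right, hyw, hyy']; simp))
      (K.inv_mem (h _ hy' huy''))
  · exact key w huw hyw

theorem IndexTwo.E_le_of_siegel (hQ : Q.polarBilin.Nondegenerate) (hI : IndexTwo Q)
    {K : Subgroup (O Q)}
    (h : ∀ u x, Q u = 0 → Q x = 0 → polar Q u x = 0 → eich Q u x ∈ K) : E Q ≤ K :=
  E_le fun u _ hu huw => hI.eich_mem_of_siegel hQ K hu (fun x => h u x hu) huw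

theorem commutator_E_E (hQ : Q.polarBilin.Nondegenerate) (h5 : 5 ≤ finrank F V)
    (hI : IndexTwo Q) : ⁅E Q, E Q⁆ = E Q := by
  refine le_antisymm (Subgroup.commutator_le_left _ _) (hI.E_le_of_siegel hQ fun u x hu hx hux => ?_)
  obtain ⟨z, w, h⟩ := exists_siegel_eq_commutator hQ h5 hu hx hux
  rw [h]
  exact Subgroup.commutator_mem_commutator (eich_mem_E x z) (eich_mem_E u w)

theorem commutator_E_eq_top (hQ : Q.polarBilin.Nondegenerate) (h5 : 5 ≤ finrank F V)
    (hI : IndexTwo Q) : commutator (E Q) = ⊤ := by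
  apply Subgroup.map_injective (E Q).subtype_injective
  rw [Subgroup.map_subtype_commutator, commutator_E_E hQ h5 hI, ← MonoidHom.range_eq_map,
    Subgroup.range_subtype]

/-- The Iwasawa structure of the Eichler subgroup acting on singular points. -/
noncomputable def iwasawa (Q : QuadraticForm F V) : MulAction.IwasawaStructure (E Q) (singPts Q) where
  T p := (eichGrp Q p.1.rep).subgroupOf (E Q)
  is_comm p := ⟨⟨by
    rintro ⟨⟨a, ha⟩, ⟨w, -, hw⟩⟩ ⟨⟨b, hb⟩, ⟨w', -, hw'⟩⟩
    apply Subtype.ext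
    apply Subtype.ext
    show a * b = b * a
    rw [show a = _ from hw, show b = _ from hw', eich_comm]⟩⟩
  is_conj g p := by
    obtain ⟨x, hx0, hx, rfl⟩ := exists_pt p
    ext k
    rw [Subgroup.smul_def, smul_pt, eichGrp_rep_pt, eichGrp_rep_pt,
      Subgroup.mem_pointwise_smul_iff_inv_smul_mem, Subgroup.mem_subgroupOf,
      Subgroup.mem_subgroupOf, ← conj_mem_eichGrp_iff g.1 _ x]
    simp [mul_assoc]
  is_generator := by
    apply Subgroup.map_injective (E Q).subtype_injective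
    rw [← MonoidHom.range_eq_map, Subgroup.range_subtype]
    refine le_antisymm (Subgroup.map_subtype_le _) (E_le fun u w hu _ => ?_)
    by_cases hu0 : u = 0
    · rw [hu0, eich_zero_left]; exact Subgroup.one_mem _
    refine ⟨⟨_, eich_mem_E u w⟩, ?_, rfl⟩
    refine (le_iSup (fun p : singPts Q => (eichGrp Q p.1.rep).subgroupOf (E Q)) (pt u hu0 hu)) ?_
    rw [eichGrp_rep_pt, Subgroup.mem_subgroupOf]
    exact eich_mem_eichGrp u w

theorem normal_E_le_center_or_commutator_le (hQ : Q.polarBilin.Nondegenerate)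
    (h5 : 5 ≤ finrank F V) {u : V} (hu : Q u = 0) (hu0 : u ≠ 0) (N : Subgroup (E Q)) [N.Normal] :
    N ≤ Subgroup.center (E Q) ∨ commutator (E Q) ≤ N := by
  have := E_isPreprimitive hQ h5
  by_cases h : MulAction.fixedPoints N (singPts Q) = Set.univ
  · left
    intro n hn
    rw [mem_center_E_iff hQ (by omega) hu hu0]
    refine eq_one_or_negO_of_fix_points hQ (by omega) hu hu0 fun x hx hx0 => ?_
    have h1 : pt x hx0 hx ∈ MulAction.fixedPoints N (singPts Q) := h ▸ Set.mem_univ _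
    obtain ⟨a, ha⟩ := (smul_pt_eq_iff n.1 hx0 hx hx0 hx).1 (h1 ⟨n, hn⟩)
    exact ⟨a, ha.symm⟩
  · exact Or.inr ((iwasawa Q).commutator_le N h)

theorem center_E_ne_top (hQ : Q.polarBilin.Nondegenerate) (h3 : 3 ≤ finrank F V) {u : V}
    (hu : Q u = 0) (hu0 : u ≠ 0) : Subgroup.center (E Q) ≠ ⊤ := by
  intro h
  obtain ⟨v, hv, huv⟩ := exists_hyp_partner' hQ hu hu0
  have hp : IsHypPair Q u v := ⟨hu, hv, huv⟩
  obtain ⟨e, he, c, hc, hec⟩ := exists_E_apply_eq_smul hQ h3 hu hu0 hv hp.symm.ne_zero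
  have h1 := (mem_center_E_iff hQ h3 hu hu0 ⟨e, he⟩).1 (h ▸ trivial)
  have h2 : polar Q u (e.1 u) = 0 := by
    rcases h1 with h1 | h1 <;> rw [show e = _ from h1]
    · rw [O_one_apply, polar_self', hu, mul_zero]
    · rw [negO_apply, polar_neg_right, polar_self', hu, mul_zero, neg_zero]
  rw [hec, polar_smul_right', huv, mul_one] at h2
  exact hc h2

/-- Simplicity of `PΩ` in dimension at least five and Witt index at least two (any field). -/
theorem isSimpleGroup_E_quot_center (hQ : Q.polarBilin.Nondegenerate) (h5 : 5 ≤ finrank F V)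
    (hI : IndexTwo Q) : IsSimpleGroup (E Q ⧸ Subgroup.center (E Q)) := by
  obtain ⟨u, -, hu, -, -, hu0, -⟩ := id hI
  refine isSimpleGroup_quot_center (center_E_ne_top hQ (by omega) hu hu0) fun N hN => ?_
  refine (normal_E_le_center_or_commutator_le hQ h5 hu hu0 N).imp_right fun h => ?_
  rwa [commutator_E_eq_top hQ h5 hI, top_le_iff] at h

theorem E_eq_commutator_of_five (hQ : Q.polarBilin.Nondegenerate) (h5 : 5 ≤ finrank F V)
    {u : V} (hu : Q u = 0) (hu0 : u ≠ 0) : E Q = commutator (O Q) :=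
  E_eq_commutator hQ (tame_of_finrank_ne_four hQ (by omega)) hu hu0 (by omega)

end CL.Orth
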