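import Cfsg.Agent.Orth.Simple

/-!
# Hyperbolic extensions and the standard forms `qPlus`, `qMinus`, `qOdd`
-/

set_option autoImplicit false

namespace CL.Orth

open QuadraticMap Module Matrix

variable {F V W : Type*} [Field F] [AddCommGroup V] [Module F V] [AddCommGroup W] [Module F W]

/-! ### One hyperbolic plane -/

/-- The orthogonal sum of a hyperbolic plane and `Q`. -/
def hyp (Q : QuadraticForm F V) : QuadraticForm F (F × F × V) :=
  linMulLin (LinearMap.fst F F (F × V)) ((LinearMap.fst F F V).comp (LinearMap.snd F F (F × V))) +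
    Q.comp ((LinearMap.snd F F V).comp (LinearMap.snd F F (F × V)))

variable {Q : QuadraticForm F V} {R : QuadraticForm F W}

theorem hyp_apply (x : F × F × V) : hyp Q x = x.1 * x.2.1 + Q x.2.2 := rfl

theorem polar_hyp (x y : F × F × V) :
    polar (hyp Q) x y = x.1 * y.2.1 + x.2.1 * y.1 + polar Q x.2.2 y.2.2 := by
  simp only [polar, hyp_apply, Prod.fst_add, Prod.snd_add]
  ring

theorem hyp_nondegenerate (hQ : Q.polarBilin.Nondegenerate) :
    (hyp Q).polarBilin.Nondegenerate :=
  nondegenerate_of fun x hx => by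
    have h1 := hx (1, 0, 0)
    have h2 := hx (0, 1, 0)
    have h3 : x.2.2 = 0 := eq_zero_of_polar hQ fun y => by simpa [polar_hyp] using hx (0, 0, y)
    simp only [polar_hyp, mul_zero, mul_one, zero_add, add_zero, polar_zero_right] at h1 h2
    exact Prod.ext h2 (Prod.ext h1 h3)

theorem isHypPair_hyp : IsHypPair (hyp Q) (1, 0, 0) (0, 1, 0) :=
  ⟨by simp [hyp_apply], by simp [hyp_apply], by simp [polar_hyp]⟩

/-- Isometries extend to hyperbolic extensions. -/
def hypCongr (e : Q.IsometryEquiv R) : (hyp Q).IsometryEquiv (hyp R) where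
  toLinearEquiv := (LinearEquiv.refl F F).prodCongr ((LinearEquiv.refl F F).prodCongr e.toLinearEquiv)
  map_app' x := by
    show x.1 * x.2.1 + R (e x.2.2) = x.1 * x.2.1 + Q x.2.2
    rw [e.map_app]

/-- Extension of an isometry by the identity on the hyperbolic plane. -/
def extO (Q : QuadraticForm F V) : O Q →* O (hyp Q) where
  toFun g := ⟨(LinearEquiv.refl F F).prodCongr ((LinearEquiv.refl F F).prodCongr g.1), fun x => by
    show x.1 * x.2.1 + Q (g.1 x.2.2) = x.1 * x.2.1 + Q x.2.2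
    rw [O_map]⟩
  map_one' := O_ext fun _ => rfl
  map_mul' _ _ := O_ext fun _ => rfl

theorem extO_apply (g : O Q) (x : F × F × V) : (extO Q g).1 x = (x.1, x.2.1, g.1 x.2.2) := rfl

theorem extO_injective : Function.Injective (extO Q) := fun _ _ H => O_ext fun x =>
  congrArg (fun k : O (hyp Q) => (k.1 (0, 0, x)).2.2) H

theorem extO_refl (v : V) : extO Q (refl Q v) = refl (hyp Q) (0, 0, v) :=
  O_ext fun x => by
    rw [extO_apply, refl_apply, refl_apply, polar_hyp, hyp_apply]
    ext <;> simp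

theorem apply_eq_of_fix {g : O (hyp Q)} (h1 : g.1 (1, 0, 0) = (1, 0, 0))
    (h2 : g.1 (0, 1, 0) = (0, 1, 0)) (x : V) : g.1 (0, 0, x) = (0, 0, (g.1 (0, 0, x)).2.2) := by
  have h3 := O_polar g (1, 0, 0) (0, 0, x)
  have h4 := O_polar g (0, 1, 0) (0, 0, x)
  rw [h1] at h3
  rw [h2] at h4
  simp only [polar_hyp, mul_zero, one_mul, zero_mul, zero_add, add_zero, polar_zero_left] at h3 h4
  exact Prod.ext h4 (Prod.ext h3 rfl)

theorem mem_range_extO_iff (g : O (hyp Q)) : g ∈ (extO Q).range ↔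
    g.1 (1, 0, 0) = (1, 0, 0) ∧ g.1 (0, 1, 0) = (0, 1, 0) := by
  constructor
  · rintro ⟨k, rfl⟩
    simp [extO_apply]
  · rintro ⟨h1, h2⟩
    have h1' : (g⁻¹).1 (1, 0, 0) = (1, 0, 0) := (O_inv_apply_eq_iff _ _ _).2 h1
    have h2' : (g⁻¹).1 (0, 1, 0) = (0, 1, 0) := (O_inv_apply_eq_iff _ _ _).2 h2
    let r : O (hyp Q) → V →ₗ[F] V := fun k =>
      ((LinearMap.snd F F V).comp (LinearMap.snd F F (F × V))).comp (k.1.toLinearMap.comp
        ((LinearMap.inr F F (F × V)).comp (LinearMap.inr F F V)))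
    have hr : ∀ k x, r k x = (k.1 (0, 0, x)).2.2 := fun _ _ => rfl
    refine ⟨mkO (r g) (r g⁻¹) (fun x => ?_) (fun x => ?_) (fun x => ?_), O_ext fun x => ?_⟩
    · rw [hr, hr, ← apply_eq_of_fix h1' h2', O_apply_inv_apply]
    · rw [hr, hr, ← apply_eq_of_fix h1 h2, O_inv_apply_apply]
    · have := O_map g (0, 0, x)
      rw [apply_eq_of_fix h1 h2] at this
      rw [hr]
      simpa [hyp_apply] using this
    · have : x = x.1 • ((1, 0, 0) : F × F × V) + x.2.1 • ((0, 1, 0) : F × F × V) + (0, 0, x.2.2) := by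
        ext <;> simp
      rw [extO_apply, mkO_apply, hr]
      conv_rhs => rw [this, map_add, map_add, map_smul, map_smul, h1, h2, apply_eq_of_fix h1 h2]
      ext <;> simp

theorem negO_hyp : negO (hyp Q) =
    refl (hyp Q) (1, 1, 0) * (refl (hyp Q) (1, -1, 0) * extO Q (negO Q)) :=
  O_ext fun x => by
    simp only [O_mul_apply, refl_apply, negO_apply, extO_apply, polar_hyp, hyp_apply]
    ext <;> simp

/-- `g` is a product of reflections whose norms have product `c`. -/
def ReflProd (g : O Q) (c : F) : Prop :=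
  ∃ l : List V, (∀ v ∈ l, Q v ≠ 0) ∧ g = (l.map (refl Q)).prod ∧ (l.map Q).prod = c

theorem reflProd_one : ReflProd (1 : O Q) 1 := ⟨[], by simp, by simp, by simp⟩

theorem ReflProd.refl_mul {g : O Q} {c : F} (h : ReflProd g c) {v : V} (hv : Q v ≠ 0) :
    ReflProd (refl Q v * g) (Q v * c) := by
  obtain ⟨l, h1, rfl, rfl⟩ := h
  refine ⟨v :: l, fun x hx => ?_, by simp, by simp⟩
  rcases List.mem_cons.1 hx with rfl | hx
  · exact hv
  · exact h1 x hx

theorem ReflProd.ne_zero {g : O Q} {c : F} (h : ReflProd g c) : c ≠ 0 := by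
  obtain ⟨l, h1, -, rfl⟩ := h
  refine List.prod_ne_zero fun h => ?_
  obtain ⟨v, hv, h0⟩ := List.mem_map.1 h
  exact h1 v hv h0

theorem ReflProd.spinRel {g : O Q} {c : F} (h : ReflProd g c) : SpinRel g c := by
  obtain ⟨l, h1, rfl, rfl⟩ := h
  induction l with
  | nil => exact spinRel_one
  | cons v l ih =>
    rw [List.map_cons, List.map_cons, List.prod_cons, List.prod_cons]
    exact (spinRel_refl (h1 v (by simp))).mul (ih fun w hw => h1 w (by simp [hw]))

theorem ReflProd.map {g : O Q} {c : F} (h : ReflProd g c) (φ : O Q →* O R) (f : V → W)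
    (hf : ∀ v, R (f v) = Q v) (hφ : ∀ v, φ (refl Q v) = refl R (f v)) : ReflProd (φ g) c := by
  obtain ⟨l, h1, rfl, rfl⟩ := h
  induction l with
  | nil => simpa using reflProd_one
  | cons v l ih =>
    rw [List.map_cons, List.map_cons, List.prod_cons, List.prod_cons, map_mul, hφ, ← hf v]
    exact (ih fun w hw => h1 w (by simp [hw])).refl_mul (by rw [hf]; exact h1 v (by simp))

theorem ReflProd.negO_congr {c : F} (h : ReflProd (negO Q) c) (e : Q.IsometryEquiv R) :
    ReflProd (negO R) c := by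
  have := h.map (OCongr e).toMonoidHom e e.map_app (OCongr_refl e)
  rwa [MulEquiv.coe_toMonoidHom, OCongr_negO] at this

theorem ReflProd.negO_hyp {c : F} (h : ReflProd (negO Q) c) : ReflProd (negO (hyp Q)) (-c) := by
  have h1 := h.map (extO Q) (fun v => (0, 0, v)) (fun v => by simp [hyp_apply]) extO_refl
  have h2 : hyp Q (1, 1, 0) = 1 := by simp [hyp_apply]
  have h3 : hyp Q (1, -1, 0) = -1 := by simp [hyp_apply]
  have := (h1.refl_mul (v := (1, -1, 0)) (by rw [h3]; simp)).refl_mul (v := (1, 1, 0))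
    (by rw [h2]; simp)
  rw [← CL.Orth.negO_hyp, h2, h3] at this
  simpa using this

/-! ### Several hyperbolic planes -/

/-- The orthogonal sum of `m` hyperbolic planes and `Q`. -/
def hypN (m : ℕ) (Q : QuadraticForm F V) : QuadraticForm F ((Fin m → F) × (Fin m → F) × V) :=
  LinearMap.BilinMap.toQuadraticMap ((dotProductBilin F F).compl₁₂
    (LinearMap.fst F (Fin m → F) ((Fin m → F) × V))
    ((LinearMap.fst F (Fin m → F) V).comp (LinearMap.snd F (Fin m → F) ((Fin m → F) × V)))) +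
    Q.comp ((LinearMap.snd F (Fin m → F) V).comp (LinearMap.snd F (Fin m → F) ((Fin m → F) × V)))

theorem hypN_apply (m : ℕ) (x : (Fin m → F) × (Fin m → F) × V) :
    hypN m Q x = ∑ i, x.1 i * x.2.1 i + Q x.2.2 := rfl

/-- No hyperbolic plane. -/
def hypNZero (Q : QuadraticForm F V) : (hypN 0 Q).IsometryEquiv Q where
  toFun x := x.2.2
  map_add' _ _ := rfl
  map_smul' _ _ := rfl
  invFun x := (0, 0, x)
  left_inv _ := Prod.ext (Subsingleton.elim _ _) (Prod.ext (Subsingleton.elim _ _) rfl)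
  right_inv _ := rfl
  map_app' x := by simp [hypN_apply]

/-- Splitting off one hyperbolic plane. -/
def hypNSucc (m : ℕ) (Q : QuadraticForm F V) :
    (hypN (m + 1) Q).IsometryEquiv (hyp (hypN m Q)) where
  toFun x := (x.1 0, x.2.1 0, Fin.tail x.1, Fin.tail x.2.1, x.2.2)
  map_add' _ _ := rfl
  map_smul' _ _ := rfl
  invFun x := (Fin.cons x.1 x.2.2.1, Fin.cons x.2.1 x.2.2.2.1, x.2.2.2.2)
  left_inv x := by simp
  right_inv x := by simp
  map_app' x := by
    simp only [hypN_apply, hyp_apply, Fin.sum_univ_succ, Fin.tail, add_assoc]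

theorem hypN_nondegenerate (m : ℕ) (hQ : Q.polarBilin.Nondegenerate) :
    (hypN m Q).polarBilin.Nondegenerate := by
  induction m with
  | zero => exact iso_nondegenerate (hypNZero Q).symm hQ
  | succ m ih => exact iso_nondegenerate (hypNSucc m Q).symm (hyp_nondegenerate ih)

theorem ReflProd.negO_hypN {c : F} (h : ReflProd (negO Q) c) (m : ℕ) :
    ReflProd (negO (hypN m Q)) ((-1) ^ m * c) := by
  induction m with
  | zero => simpa using h.negO_congr (hypNZero Q).symm
  | succ m ih =>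
    have := ih.negO_hyp.negO_congr (hypNSucc m Q).symm
    rwa [pow_succ, mul_neg_one, neg_mul]

theorem IndexTwo.congr (h : IndexTwo Q) (e : Q.IsometryEquiv R) : IndexTwo R := by
  obtain ⟨a, b, ha, hb, hab, ha0, hba⟩ := h
  refine ⟨e a, e b, by rw [e.map_app, ha], by rw [e.map_app, hb], by rw [iso_polar, hab],
    fun h => ha0 (e.toLinearEquiv.map_eq_zero_iff.1 h), fun h => hba ?_⟩
  obtain ⟨c, hc⟩ := Submodule.mem_span_singleton.1 h
  exact Submodule.mem_span_singleton.2 ⟨c, e.toLinearEquiv.injective (by rw [map_smul]; exact hc)⟩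

theorem indexTwo_hyp_hyp (Q : QuadraticForm F V) : IndexTwo (hyp (hyp Q)) := by
  refine ⟨(1, 0, 0), (0, 0, (1, 0, 0)), by simp [hyp_apply], by simp [hyp_apply],
    by simp [polar_hyp], by simp, fun h => ?_⟩
  obtain ⟨c, hc⟩ := Submodule.mem_span_singleton.1 h
  simpa using congrArg (fun x : F × F × F × F × V => x.2.2.1) hc

theorem indexTwo_hypN {m : ℕ} (hm : 2 ≤ m) (Q : QuadraticForm F V) : IndexTwo (hypN m Q) := by
  obtain ⟨k, rfl⟩ := Nat.exists_eq_add_of_le' hm
  exact (indexTwo_hyp_hyp _).congr ((hypNSucc (k + 1) Q).trans (hypCongr (hypNSucc k Q))).symm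

theorem exists_singular_congr (e : Q.IsometryEquiv R) (h : ∃ u, Q u = 0 ∧ u ≠ 0) :
    ∃ u, R u = 0 ∧ u ≠ 0 := by
  obtain ⟨u, h1, h2⟩ := h
  exact ⟨e u, by rw [e.map_app, h1], fun h => h2 (e.toLinearEquiv.map_eq_zero_iff.1 h)⟩

theorem exists_singular_hypN {m : ℕ} (hm : 1 ≤ m) (Q : QuadraticForm F V) :
    ∃ u, hypN m Q u = 0 ∧ u ≠ 0 := by
  obtain ⟨k, rfl⟩ := Nat.exists_eq_add_of_le' hm
  exact exists_singular_congr (hypNSucc k Q).symm 
    ⟨_, isHypPair_hyp.left, (isHypPair_hyp (Q := hypN k Q)).ne_zero⟩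

/-! ### The anisotropic kernels -/

/-- The binary form `z₁² + a z₁ z₂ + b z₂²`. -/
def binF (a b : F) : QuadraticForm F (Fin 2 → F) :=
  proj 0 0 + a • proj 0 1 + b • proj 1 1

theorem binF_apply (a b : F) (z : Fin 2 → F) :
    binF a b z = z 0 ^ 2 + a * z 0 * z 1 + b * z 1 ^ 2 := by
  simp [binF]; ring

theorem polar_binF (a b : F) (z w : Fin 2 → F) : polar (binF a b) z w =
    2 * z 0 * w 0 + a * (z 0 * w 1 + z 1 * w 0) + 2 * b * z 1 * w 1 := by
  simp only [polar, binF_apply, Pi.add_apply]; ring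

theorem binF_nondegenerate {a b : F} (h : 4 * b - a ^ 2 ≠ 0) :
    (binF a b).polarBilin.Nondegenerate :=
  nondegenerate_of fun x hx => by
    have h1 := hx ![1, 0]
    have h2 := hx ![0, 1]
    simp only [polar_binF, Matrix.cons_val_zero, Matrix.cons_val_one] at h1 h2
    have h3 : (4 * b - a ^ 2) * x 0 = 0 := by linear_combination 2 * b * h1 - a * h2
    have h4 : (4 * b - a ^ 2) * x 1 = 0 := by linear_combination 2 * h2 - a * h1
    ext i
    fin_cases i
    · exact (mul_eq_zero.1 h3).resolve_left h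
    · exact (mul_eq_zero.1 h4).resolve_left h

/-- An anisotropic binary form over a finite field has non-zero discriminant. -/
theorem disc_ne_zero [Finite F] {a b : F}
    (hab : ∀ z₁ z₂ : F, z₁ ^ 2 + a * z₁ * z₂ + b * z₂ ^ 2 = 0 → z₁ = 0 ∧ z₂ = 0) :
    4 * b - a ^ 2 ≠ 0 := by
  intro h
  by_cases h2 : (2 : F) = 0
  · obtain ⟨s, hs⟩ := isSquare_of_two_eq_zero h2 b
    have ha : a = 0 := by
      have : a ^ 2 = 0 := by linear_combination (2 * b) * h2 - h
      simpa using this
    have := (hab s 1 (by rw [ha, hs]; linear_combination (s * s) * h2)).2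
    exact one_ne_zero this
  · exact h2 (hab (-a) 2 (by linear_combination h)).2

theorem not_isSquare_disc (h2 : (2 : F) ≠ 0) {a b : F}
    (hab : ∀ z₁ z₂ : F, z₁ ^ 2 + a * z₁ * z₂ + b * z₂ ^ 2 = 0 → z₁ = 0 ∧ z₂ = 0) :
    ¬ IsSquare (-(4 * b - a ^ 2)) := by
  rintro ⟨s, hs⟩
  exact h2 (hab (s - a) 2 (by linear_combination -hs)).2

theorem reflProd_negO_binF {a b : F} (h : 4 * b - a ^ 2 ≠ 0) :
    ReflProd (negO (binF a b)) (4 * b - a ^ 2) := by
  have h3 : binF a b ![1, 0] = 1 := by simp [binF_apply]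
  have h4 : binF a b ![-a, 2] = 4 * b - a ^ 2 := by simp [binF_apply]; ring
  have := ((reflProd_one (Q := binF a b)).refl_mul (v := ![-a, 2]) (by rwa [h4])).refl_mul
    (v := ![1, 0]) (by rw [h3]; exact one_ne_zero)
  rw [h3, h4, mul_one, mul_one, one_mul] at this
  convert this using 1
  refine O_ext fun x => ?_
  rw [O_mul_apply, refl_apply, refl_apply, h3, h4, negO_apply]
  ext i
  fin_cases i <;> simp [polar_binF, vecHead, vecTail] <;> field_simp <;> ring

theorem sq_nondegenerate (h2 : (2 : F) ≠ 0) :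
    (QuadraticMap.sq : QuadraticForm F F).polarBilin.Nondegenerate :=
  nondegenerate_of fun x hx => by
    have := hx 1
    simp only [polar, QuadraticMap.sq_apply] at this
    have h3 : 2 * x = 0 := by linear_combination this
    exact (mul_eq_zero.1 h3).resolve_left h2

theorem zero_nondegenerate : (0 : QuadraticForm F Unit).polarBilin.Nondegenerate :=
  nondegenerate_of fun _ _ => rfl

theorem reflProd_negO_zero : ReflProd (negO (0 : QuadraticForm F Unit)) 1 := by
  rw [show negO (0 : QuadraticForm F Unit) = 1 from O_ext fun _ => rfl]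
  exact reflProd_one

/-! ### The standard forms -/

/-- Coordinates for the plus type form. -/
def plusLin (m : ℕ) (F : Type*) [Field F] :
    (Fin m ⊕ Fin m → F) ≃ₗ[F] ((Fin m → F) × (Fin m → F) × Unit) where
  toFun v := (fun i => v (.inl i), fun i => v (.inr i), ())
  map_add' _ _ := rfl
  map_smul' _ _ := rfl
  invFun x := Sum.elim x.1 x.2.1
  left_inv v := by ext (i | i) <;> rfl
  right_inv _ := rfl

/-- `Cfsg.quadFormPlus` as a quadratic form. -/
def qPlus (m : ℕ) (F : Type*) [Field F] : QuadraticForm F (Fin m ⊕ Fin m → F) :=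
  ((hypN m (0 : QuadraticForm F Unit)).comp (plusLin m F).toLinearMap).copy
    (Cfsg.quadFormPlus m F) (funext fun _ => (add_zero _).symm)

theorem coe_qPlus (m : ℕ) : ⇑(qPlus m F) = Cfsg.quadFormPlus m F := rfl

/-- The plus type form is a sum of hyperbolic planes. -/
def plusIso (m : ℕ) (F : Type*) [Field F] :
    (qPlus m F).IsometryEquiv (hypN m (0 : QuadraticForm F Unit)) where
  toLinearEquiv := plusLin m F
  map_app' _ := add_zero _

/-- Coordinates for the odd dimensional form. -/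
def oddLin (m : ℕ) (F : Type*) [Field F] :
    (Unit ⊕ (Fin m ⊕ Fin m) → F) ≃ₗ[F] ((Fin m → F) × (Fin m → F) × F) where
  toFun v := (fun i => v (.inr (.inl i)), fun i => v (.inr (.inr i)), v (.inl ()))
  map_add' _ _ := rfl
  map_smul' _ _ := rfl
  invFun x := Sum.elim (fun _ => x.2.2) (Sum.elim x.1 x.2.1)
  left_inv v := by ext (i | i | i) <;> rfl
  right_inv _ := rfl

/-- `Cfsg.quadFormOdd` as a quadratic form. -/
def qOdd (m : ℕ) (F : Type*) [Field F] : QuadraticForm F (Unit ⊕ (Fin m ⊕ Fin m) → F) :=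
  ((hypN m (QuadraticMap.sq : QuadraticForm F F)).comp (oddLin m F).toLinearMap).copy
    (Cfsg.quadFormOdd m F) (funext fun _ => by
      rw [Cfsg.quadFormOdd, add_comm, pow_two]; rfl)

theorem coe_qOdd (m : ℕ) : ⇑(qOdd m F) = Cfsg.quadFormOdd m F := rfl

/-- The odd dimensional form is a sum of hyperbolic planes and a square. -/
def oddIso (m : ℕ) (F : Type*) [Field F] :
    (qOdd m F).IsometryEquiv (hypN m (QuadraticMap.sq : QuadraticForm F F)) where
  toLinearEquiv := oddLin m F
  map_app' _ := by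
    rw [coe_qOdd, Cfsg.quadFormOdd, add_comm, pow_two]; rfl

/-- Coordinates for the minus type form. -/
def minusLin (m : ℕ) (F : Type*) [Field F] :
    ((Fin m ⊕ Fin m) ⊕ Fin 2 → F) ≃ₗ[F] ((Fin m → F) × (Fin m → F) × (Fin 2 → F)) where
  toFun v := (fun i => v (.inl (.inl i)), fun i => v (.inl (.inr i)), fun i => v (.inr i))
  map_add' _ _ := rfl
  map_smul' _ _ := rfl
  invFun x := Sum.elim (Sum.elim x.1 x.2.1) x.2.2
  left_inv v := by ext ((i | i) | i) <;> rfl
  right_inv _ := rfl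

/-- `Cfsg.quadFormMinus` as a quadratic form. -/
def qMinus (m : ℕ) (F : Type*) [Field F] (a b : F) :
    QuadraticForm F ((Fin m ⊕ Fin m) ⊕ Fin 2 → F) :=
  ((hypN m (binF a b)).comp (minusLin m F).toLinearMap).copy
    (Cfsg.quadFormMinus m F a b) (funext fun _ => by
      rw [QuadraticMap.comp_apply, hypN_apply, binF_apply]; rfl)

theorem coe_qMinus (m : ℕ) (a b : F) : ⇑(qMinus m F a b) = Cfsg.quadFormMinus m F a b := rfl

/-- The minus type form is a sum of hyperbolic planes and a binary form. -/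
def minusIso (m : ℕ) (F : Type*) [Field F] (a b : F) :
    (qMinus m F a b).IsometryEquiv (hypN m (binF a b)) where
  toLinearEquiv := minusLin m F
  map_app' _ := by
    rw [hypN_apply, binF_apply]; rfl

theorem qPlus_nondegenerate (m : ℕ) : (qPlus m F).polarBilin.Nondegenerate :=
  iso_nondegenerate (plusIso m F).symm (hypN_nondegenerate m zero_nondegenerate)

theorem qOdd_nondegenerate (h2 : (2 : F) ≠ 0) (m : ℕ) : (qOdd m F).polarBilin.Nondegenerate :=
  iso_nondegenerate (oddIso m F).symm (hypN_nondegenerate m (sq_nondegenerate h2))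

theorem qMinus_nondegenerate (m : ℕ) {a b : F} (h : 4 * b - a ^ 2 ≠ 0) :
    (qMinus m F a b).polarBilin.Nondegenerate :=
  iso_nondegenerate (minusIso m F a b).symm (hypN_nondegenerate m (binF_nondegenerate h))

theorem indexTwo_qPlus {m : ℕ} (hm : 2 ≤ m) : IndexTwo (qPlus m F) :=
  (indexTwo_hypN hm _).congr (plusIso m F).symm

theorem indexTwo_qOdd {m : ℕ} (hm : 2 ≤ m) : IndexTwo (qOdd m F) :=
  (indexTwo_hypN hm _).congr (oddIso m F).symm

theorem indexTwo_qMinus {m : ℕ} (hm : 2 ≤ m) (a b : F) : IndexTwo (qMinus m F a b) :=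
  (indexTwo_hypN hm _).congr (minusIso m F a b).symm

theorem exists_singular_qPlus {m : ℕ} (hm : 1 ≤ m) : ∃ u, qPlus m F u = 0 ∧ u ≠ 0 :=
  exists_singular_congr (plusIso m F).symm (exists_singular_hypN hm _)

theorem exists_singular_qOdd {m : ℕ} (hm : 1 ≤ m) : ∃ u, qOdd m F u = 0 ∧ u ≠ 0 :=
  exists_singular_congr (oddIso m F).symm (exists_singular_hypN hm _)

theorem exists_singular_qMinus {m : ℕ} (hm : 1 ≤ m) (a b : F) :
    ∃ u, qMinus m F a b u = 0 ∧ u ≠ 0 :=
  exists_singular_congr (minusIso m F a b).symm (exists_singular_hypN hm _)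

theorem finrank_plus (m : ℕ) : finrank F (Fin m ⊕ Fin m → F) = 2 * m := by
  simp [two_mul]

theorem finrank_odd (m : ℕ) : finrank F (Unit ⊕ (Fin m ⊕ Fin m) → F) = 2 * m + 1 := by
  simp; omega

theorem finrank_minus (m : ℕ) : finrank F ((Fin m ⊕ Fin m) ⊕ Fin 2 → F) = 2 * m + 2 := by
  simp; omega

theorem reflProd_negO_qPlus (m : ℕ) : ReflProd (negO (qPlus m F)) ((-1) ^ m) := by
  simpa using (reflProd_negO_zero.negO_hypN m).negO_congr (plusIso m F).symm

theorem reflProd_negO_qMinus (m : ℕ) {a b : F} (h : 4 * b - a ^ 2 ≠ 0) :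
    ReflProd (negO (qMinus m F a b)) ((-1) ^ m * (4 * b - a ^ 2)) :=
  ((reflProd_negO_binF h).negO_hypN m).negO_congr (minusIso m F a b).symm

/-! ### Simplicity of the matrix groups -/

theorem isSimpleGroup_pomega {ι : Type} [Fintype ι] [DecidableEq ι] {Q : QuadraticForm F (ι → F)}
    (hQ : Q.polarBilin.Nondegenerate) (h5 : 5 ≤ finrank F (ι → F)) (hI : IndexTwo Q) :
    IsSimpleGroup (Cfsg.POmega F ⇑Q) := by
  have h := isSimpleGroup_E_quot_center hQ h5 hI
  obtain ⟨u, -, hu, -, -, hu0, -⟩ := hI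
  rw [E_eq_commutator_of_five hQ h5 hu hu0] at h
  exact (pomegaEquiv Q).isSimpleGroup

theorem two_ne_zero_of_odd_card [Fintype F] (h : Odd (Fintype.card F)) : (2 : F) ≠ 0 := by
  intro h2
  have : CharP F 2 := (CharP.charP_iff_prime_eq_zero Nat.prime_two).2 (by exact_mod_cast h2)
  have := FiniteField.even_card_of_char_two (ringChar.eq F 2)
  rw [Nat.odd_iff] at h
  omega

theorem two_eq_zero_of_even_card [Fintype F] (h : ¬ Odd (Fintype.card F)) : (2 : F) = 0 := by
  by_contra h2
  exact h (Nat.odd_iff.2 (FiniteField.odd_card_of_char_ne_two (ringChar_ne_two_of h2)))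

end CL.Orth
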