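import Cfsg.Agent.Orth.Gen

/-!
# The Dickson invariant

`dsign g = (-1) ^ codim (fix g)` changes sign under multiplication by a reflection, so it is a
homomorphism `O Q →* ℤˣ` for tame forms.
-/

set_option autoImplicit false

namespace CL.Orth

open QuadraticMap Module

variable {F V : Type*} [Field F] [AddCommGroup V] [Module F V] {Q : QuadraticForm F V}

theorem finrank_eq_inf_ker_add_one [FiniteDimensional F V] (S : Submodule F V) (f : V →ₗ[F] F)
    {y : V} (hy : y ∈ S) (hf : f y ≠ 0) :
    finrank F S = finrank F (S ⊓ LinearMap.ker f : Submodule F V) + 1 := by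
  have h1 := LinearMap.finrank_range_add_finrank_ker (f.domRestrict S)
  have h2 : LinearMap.range (f.domRestrict S) = ⊤ := by
    rw [eq_top_iff]
    intro a _
    refine ⟨(a * (f y)⁻¹) • ⟨y, hy⟩, ?_⟩
    simp [hf]
  rw [h2, finrank_top, finrank_self, LinearMap.ker_domRestrict] at h1
  have h3 : finrank F ((LinearMap.ker f).comap S.subtype) =
      finrank F (S ⊓ LinearMap.ker f : Submodule F V) := by
    rw [← Submodule.finrank_map_subtype_eq, Submodule.map_comap_subtype]
  omega

/-- The linear map `x ↦ g x - x`. -/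
def subId (g : O Q) : V →ₗ[F] V := g.1.toLinearMap - LinearMap.id

theorem subId_apply (g : O Q) (x : V) : subId g x = g.1 x - x := rfl

theorem ker_subId (g : O Q) : LinearMap.ker (subId g) = fix g := by
  ext x
  rw [LinearMap.mem_ker, subId_apply, sub_eq_zero, mem_fix]

variable [FiniteDimensional F V]

theorem range_subId (hQ : Q.polarBilin.Nondegenerate) (g : O Q) :
    LinearMap.range (subId g) = perp Q (fix g) := by
  refine Submodule.eq_of_le_of_finrank_eq ?_ ?_
  · rintro _ ⟨x, rfl⟩ z hz
    exact polar_sub_of_mem_fix hz x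
  · have h1 := LinearMap.finrank_range_add_finrank_ker (subId g)
    have h2 := finrank_perp_add hQ (fix g)
    rw [ker_subId] at h1
    omega

theorem finrank_fix_mul_refl_of_le (hQ : Q.polarBilin.Nondegenerate) (g : O Q) {v : V}
    (hv : Q v ≠ 0) (h : ∀ z ∈ fix g, polar Q v z = 0) :
    finrank F (fix (g * refl Q v)) = finrank F (fix g) + 1 := by
  have h1 : v ∈ LinearMap.range (subId g⁻¹) := by
    rw [range_subId hQ, fix_inv]
    exact fun z hz => by rw [polarBilin_apply_apply, polar_comm]; exact h z hz
  obtain ⟨y, hy⟩ := h1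
  rw [subId_apply] at hy
  have h2 : polar Q v y = - Q v := by
    rw [polar_comm, ← hy, polar_self_sub]
  have h3 : y ∈ fix (g * refl Q v) := by
    rw [mem_fix, O_mul_apply, refl_apply, h2, mul_neg, inv_mul_cancel₀ hv, neg_smul, one_smul,
      sub_neg_eq_add, ← hy, add_sub_cancel, O_apply_inv_apply]
  rw [finrank_eq_inf_ker_add_one _ (Q.polarBilin v) h3 (by
    rw [polarBilin_apply_apply, h2]; simpa using hv)]
  congr 1
  refine congrArg (fun S : Submodule F V => finrank F S) ?_
  ext z
  simp only [Submodule.mem_inf, LinearMap.mem_ker, polarBilin_apply_apply]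
  constructor
  · rintro ⟨h4, h5⟩
    rwa [mem_fix, O_mul_apply, refl_apply_of_orth h5] at h4
  · intro h4
    refine ⟨?_, h z h4⟩
    rwa [mem_fix, O_mul_apply, refl_apply_of_orth (h z h4)]

theorem finrank_fix_mul_refl (hQ : Q.polarBilin.Nondegenerate) (g : O Q) {v : V} (hv : Q v ≠ 0) :
    finrank F (fix (g * refl Q v)) = finrank F (fix g) + 1 ∨
      finrank F (fix (g * refl Q v)) + 1 = finrank F (fix g) := by
  by_cases h : ∀ z ∈ fix g, polar Q v z = 0
  · exact Or.inl (finrank_fix_mul_refl_of_le hQ g hv h)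
  · push Not at h
    obtain ⟨y, hy, hy'⟩ := h
    right
    have := finrank_fix_mul_refl_of_le hQ (g * refl Q v) hv (fun z hz => ?_)
    · rw [mul_assoc, refl_mul_self, mul_one] at this
      exact this.symm
    · have h1 := polar_sub_of_mem_fix hz y
      have h2 : (g * refl Q v).1 y - y = -(((Q v)⁻¹ * polar Q v y) • g.1 v) := by
        rw [O_mul_apply, refl_apply, map_sub, map_smul, mem_fix.1 hy]; abel
      rw [h2, polar_neg_right, polar_smul_right', neg_eq_zero, mul_eq_zero] at h1
      rcases h1 with h1 | h1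
      · exact absurd h1 (mul_ne_zero (inv_ne_zero hv) hy')
      · have h3 : g.1 v = -((g * refl Q v).1 v) := by
          rw [O_mul_apply, refl_apply_self hv, map_neg, neg_neg]
        rw [h3, polar_neg_right, neg_eq_zero, ← mem_fix.1 hz, O_polar, polar_comm] at h1
        exact h1

/-- The Dickson invariant, as a sign. -/
noncomputable def dsign (g : O Q) : ℤˣ := (-1) ^ (finrank F V - finrank F (fix g))

omit [FiniteDimensional F V] in
theorem dsign_one : dsign (1 : O Q) = 1 := by
  rw [dsign, fix_one, finrank_top, Nat.sub_self, pow_zero]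

omit [FiniteDimensional F V] in
theorem dsign_inv (g : O Q) : dsign g⁻¹ = dsign g := by
  rw [dsign, dsign, fix_inv]

theorem dsign_mul_refl (hQ : Q.polarBilin.Nondegenerate) (g : O Q) {v : V} (hv : Q v ≠ 0) :
    dsign (g * refl Q v) = - dsign g := by
  have h1 := Submodule.finrank_le (fix g)
  have h2 := Submodule.finrank_le (fix (g * refl Q v))
  unfold dsign
  rcases finrank_fix_mul_refl hQ g hv with h | h
  · rw [show finrank F V - finrank F (fix g) =
      finrank F V - finrank F (fix (g * refl Q v)) + 1 by omega, pow_succ]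
    simp
  · rw [show finrank F V - finrank F (fix (g * refl Q v)) =
      finrank F V - finrank F (fix g) + 1 by omega, pow_succ]
    simp

theorem dsign_refl_mul (hQ : Q.polarBilin.Nondegenerate) (g : O Q) {v : V} (hv : Q v ≠ 0) :
    dsign (refl Q v * g) = - dsign g := by
  rw [← dsign_inv, mul_inv_rev, refl_inv, dsign_mul_refl hQ _ hv, dsign_inv]

theorem dsign_refl (hQ : Q.polarBilin.Nondegenerate) {v : V} (hv : Q v ≠ 0) :
    dsign (refl Q v) = -1 := by
  rw [← mul_one (refl Q v), dsign_refl_mul hQ _ hv, dsign_one]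

theorem dsign_mul (hQ : Q.polarBilin.Nondegenerate) (hT : Tame Q) (g h : O Q) :
    dsign (g * h) = dsign g * dsign h := by
  refine refl_induction hQ hT (p := fun g => dsign (g * h) = dsign g * dsign h) ?_ ?_ g
  · rw [one_mul, dsign_one, one_mul]
  · intro v g hv ih
    rw [mul_assoc, dsign_refl_mul hQ _ hv, dsign_refl_mul hQ _ hv, ih, neg_mul]

/-- The Dickson invariant as a homomorphism. -/
noncomputable def dickson (hQ : Q.polarBilin.Nondegenerate) (hT : Tame Q) : O Q →* ℤˣ where
  toFun := dsign
  map_one' := dsign_one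
  map_mul' := dsign_mul hQ hT

theorem dickson_apply (hQ : Q.polarBilin.Nondegenerate) (hT : Tame Q) (g : O Q) :
    dickson hQ hT g = dsign g := rfl

theorem dickson_refl (hQ : Q.polarBilin.Nondegenerate) (hT : Tame Q) {v : V} (hv : Q v ≠ 0) :
    dickson hQ hT (refl Q v) = -1 := dsign_refl hQ hv

omit [FiniteDimensional F V] in
theorem fix_negO (h2 : (2 : F) ≠ 0) : fix (negO Q) = ⊥ := by
  rw [eq_bot_iff]
  intro x hx
  rw [mem_fix, negO_apply, neg_eq_iff_add_eq_zero, ← two_smul F, smul_eq_zero] at hx
  exact hx.resolve_left h2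

omit [FiniteDimensional F V] in
theorem dsign_negO (h2 : (2 : F) ≠ 0) : dsign (negO Q) = (-1) ^ finrank F V := by
  rw [dsign, fix_negO h2, finrank_bot, Nat.sub_zero]

/-- determinant of a reflection -/
theorem det_refl {v : V} (hv : Q v ≠ 0) :
    LinearMap.det ((refl Q v).1 : V →ₗ[F] V) = -1 := by
  have h : ((refl Q v).1 : V →ₗ[F] V) =
      LinearMap.transvection (-((Q v)⁻¹ • Q.polarBilin v)) v := by
    ext x
    simp [refl_apply, LinearMap.transvection.apply, sub_eq_add_neg]
  rw [h, LinearMap.transvection.det]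
  simp only [LinearMap.neg_apply, LinearMap.smul_apply, polarBilin_apply_apply, polar_self',
    smul_eq_mul]
  field_simp
  ring

/-- the determinant of an isometry of a tame form is its Dickson sign -/
theorem det_eq_dsign (hQ : Q.polarBilin.Nondegenerate) (hT : Tame Q) (g : O Q) :
    LinearMap.det (g.1 : V →ₗ[F] V) = ((dsign g : ℤ) : F) := by
  refine refl_induction hQ hT (p := fun g => LinearMap.det (g.1 : V →ₗ[F] V) =
    ((dsign g : ℤ) : F)) ?_ ?_ g
  · rw [dsign_one]
    simp
  · intro v g hv ih
    rw [dsign_refl_mul hQ _ hv]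
    have : ((refl Q v * g).1 : V →ₗ[F] V) = ((refl Q v).1 : V →ₗ[F] V) * (g.1 : V →ₗ[F] V) := rfl
    rw [this, map_mul, det_refl hv, ih]
    simp

end CL.Orth
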