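import Cfsg.Agent.Base

/-!
# Orthogonal groups of abstract quadratic forms: basic definitions

`O Q` is the group of linear automorphisms preserving `Q`; `refl Q v` the reflection (orthogonal
transvection in characteristic two) and `eich Q u w` the Eichler (Siegel) transformation.
-/

set_option autoImplicit false

namespace CL.Orth

open QuadraticMap Module

variable {F V : Type*} [Field F] [AddCommGroup V] [Module F V]

/-! ### Calculation rules -/

theorem Q_add (Q : QuadraticForm F V) (x y : V) : Q (x + y) = Q x + Q y + polar Q x y :=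
  QuadraticMap.map_add Q x y

theorem Q_smul (Q : QuadraticForm F V) (a : F) (x : V) : Q (a • x) = a * a * Q x := by
  rw [QuadraticMap.map_smul, smul_eq_mul]

theorem Q_sub (Q : QuadraticForm F V) (x y : V) : Q (x - y) = Q x + Q y - polar Q x y := by
  rw [sub_eq_add_neg, Q_add, QuadraticMap.map_neg, polar_neg_right]; ring

theorem polar_self' (Q : QuadraticForm F V) (x : V) : polar Q x x = 2 * Q x := by
  rw [polar_self]; simp

theorem polar_smul_left' (Q : QuadraticForm F V) (a : F) (x y : V) :
    polar Q (a • x) y = a * polar Q x y := by rw [polar_smul_left, smul_eq_mul]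

theorem polar_smul_right' (Q : QuadraticForm F V) (a : F) (x y : V) :
    polar Q x (a • y) = a * polar Q x y := by rw [polar_smul_right, smul_eq_mul]

/-- expand quadratic form and polar form of linear combinations -/
scoped syntax "qsimp" (" [" Lean.Parser.Tactic.simpLemma,* "]")? (Lean.Parser.Tactic.location)? : tactic
scoped macro_rules
  | `(tactic| qsimp $[$loc]?) => `(tactic| simp only [Q_add, Q_sub, Q_smul, QuadraticMap.map_neg,
      QuadraticMap.map_zero, polar_add_left, polar_add_right, polar_sub_left, polar_sub_right,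
      polar_neg_left, polar_neg_right, polar_smul_left', polar_smul_right', polar_self',
      polar_zero_left, polar_zero_right] $[$loc]?)
  | `(tactic| qsimp [$ts,*] $[$loc]?) => `(tactic| simp only [Q_add, Q_sub, Q_smul, QuadraticMap.map_neg,
      QuadraticMap.map_zero, polar_add_left, polar_add_right, polar_sub_left, polar_sub_right,
      polar_neg_left, polar_neg_right, polar_smul_left', polar_smul_right', polar_self',
      polar_zero_left, polar_zero_right, $ts,*] $[$loc]?)

/-! ### The orthogonal group -/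

/-- The group of linear automorphisms preserving the quadratic form `Q`. -/
def O (Q : QuadraticForm F V) : Subgroup (V ≃ₗ[F] V) where
  carrier := {g | ∀ v, Q (g v) = Q v}
  mul_mem' {a b} ha hb v := by
    show Q (a (b v)) = Q v
    rw [ha, hb]
  one_mem' _ := rfl
  inv_mem' {a} ha v := by
    have := ha (a.symm v)
    rw [LinearEquiv.apply_symm_apply] at this
    exact this.symm

variable {Q : QuadraticForm F V}

theorem mem_O {g : V ≃ₗ[F] V} : g ∈ O Q ↔ ∀ v, Q (g v) = Q v := Iff.rfl

theorem O_map (g : O Q) (v : V) : Q (g.1 v) = Q v := g.2 v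

theorem O_polar (g : O Q) (x y : V) : polar Q (g.1 x) (g.1 y) = polar Q x y := by
  simp only [polar, ← map_add, O_map]

theorem O_mul_apply (g h : O Q) (x : V) : (g * h).1 x = g.1 (h.1 x) := rfl

theorem O_one_apply (x : V) : (1 : O Q).1 x = x := rfl

theorem O_inv_apply_apply (g : O Q) (x : V) : (g⁻¹).1 (g.1 x) = x := by
  rw [← O_mul_apply, inv_mul_cancel, O_one_apply]

theorem O_apply_inv_apply (g : O Q) (x : V) : g.1 ((g⁻¹).1 x) = x := by
  rw [← O_mul_apply, mul_inv_cancel, O_one_apply]

theorem O_polar_left (g : O Q) (x y : V) : polar Q (g.1 x) y = polar Q x ((g⁻¹).1 y) := by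
  rw [← O_polar g x, O_apply_inv_apply]

theorem O_polar_right (g : O Q) (x y : V) : polar Q x (g.1 y) = polar Q ((g⁻¹).1 x) y := by
  rw [← O_polar g _ y, O_apply_inv_apply]

theorem O_ext {g h : O Q} (H : ∀ x, g.1 x = h.1 x) : g = h :=
  Subtype.ext (LinearEquiv.ext H)

theorem O_inv_apply_eq_iff (g : O Q) (x y : V) : (g⁻¹).1 x = y ↔ g.1 y = x := by
  constructor
  · rintro rfl; exact O_apply_inv_apply g x
  · rintro rfl; exact O_inv_apply_apply g y

theorem O_apply_eq_zero_iff (g : O Q) (x : V) : g.1 x = 0 ↔ x = 0 := g.1.map_eq_zero_iff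

theorem O_smul_def (g : O Q) (x : V) : g • x = g.1 x := rfl

/-- Build an element of `O Q` from a linear map with a two-sided inverse. -/
def mkO (f g : V →ₗ[F] V) (h1 : ∀ x, f (g x) = x) (h2 : ∀ x, g (f x) = x)
    (h : ∀ x, Q (f x) = Q x) : O Q :=
  ⟨LinearEquiv.ofLinearMap f g (LinearMap.ext h1) (LinearMap.ext h2), h⟩

theorem mkO_apply (f g : V →ₗ[F] V) (h1 : ∀ x, f (g x) = x) (h2 : ∀ x, g (f x) = x)
    (h : ∀ x, Q (f x) = Q x) (x : V) : (mkO f g h1 h2 h).1 x = f x := rfl

/-- `-1` as an isometry. -/
def negO (Q : QuadraticForm F V) : O Q :=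
  mkO (-LinearMap.id) (-LinearMap.id) (by simp) (by simp) (by simp)

theorem negO_apply (x : V) : (negO Q).1 x = -x := rfl

theorem negO_mul_self : negO Q * negO Q = 1 :=
  O_ext fun x => by rw [O_mul_apply, negO_apply, negO_apply, neg_neg, O_one_apply]

theorem negO_comm (g : O Q) : negO Q * g = g * negO Q :=
  O_ext fun x => by rw [O_mul_apply, O_mul_apply, negO_apply, negO_apply, map_neg]

/-! ### Reflections -/

/-- The linear map underlying a reflection. -/
def reflMap (Q : QuadraticForm F V) (v : V) : V →ₗ[F] V :=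
  LinearMap.id - ((Q v)⁻¹ • Q.polarBilin v).smulRight v

theorem reflMap_apply (v x : V) : reflMap Q v x = x - ((Q v)⁻¹ * polar Q v x) • v := by
  simp [reflMap]

theorem reflMap_reflMap (v x : V) : reflMap Q v (reflMap Q v x) = x := by
  by_cases h : Q v = 0
  · simp [reflMap_apply, h]
  · rw [reflMap_apply, reflMap_apply]
    qsimp
    have : (Q v)⁻¹ * (polar Q v x - (Q v)⁻¹ * polar Q v x * (2 * Q v)) =
        -((Q v)⁻¹ * polar Q v x) := by field_simp; ring
    rw [this]; module

theorem Q_reflMap (v x : V) : Q (reflMap Q v x) = Q x := by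
  by_cases h : Q v = 0
  · simp [reflMap_apply, h]
  · rw [reflMap_apply]
    qsimp [polar_comm Q x v]
    field_simp; ring

/-- The reflection `x ↦ x - (B(v,x)/Q v) v`; it is the identity when `Q v = 0`. -/
def refl (Q : QuadraticForm F V) (v : V) : O Q :=
  mkO (reflMap Q v) (reflMap Q v) (reflMap_reflMap v) (reflMap_reflMap v) (Q_reflMap v)

theorem refl_apply (v x : V) : (refl Q v).1 x = x - ((Q v)⁻¹ * polar Q v x) • v :=
  reflMap_apply v x

theorem refl_mul_self (v : V) : refl Q v * refl Q v = 1 :=
  O_ext fun x => reflMap_reflMap v x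

theorem refl_inv (v : V) : (refl Q v)⁻¹ = refl Q v :=
  inv_eq_of_mul_eq_one_right (refl_mul_self v)

theorem refl_of_zero {v : V} (h : Q v = 0) : refl Q v = 1 :=
  O_ext fun x => by rw [refl_apply, h, inv_zero, zero_mul, zero_smul, sub_zero, O_one_apply]

theorem refl_apply_of_orth {v x : V} (h : polar Q v x = 0) : (refl Q v).1 x = x := by
  rw [refl_apply, h, mul_zero, zero_smul, sub_zero]

theorem refl_apply_self {v : V} (h : Q v ≠ 0) : (refl Q v).1 v = -v := by
  rw [refl_apply, polar_self']
  have : (Q v)⁻¹ * (2 * Q v) = 2 := by field_simp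
  rw [this]; module

theorem refl_smul {a : F} (ha : a ≠ 0) (v : V) : refl Q (a • v) = refl Q v := by
  refine O_ext fun x => ?_
  rw [refl_apply, refl_apply]
  qsimp
  by_cases h : Q v = 0
  · simp [h]
  · rw [smul_smul]
    congr 2
    field_simp

theorem refl_neg (v : V) : refl Q (-v) = refl Q v := by
  rw [← neg_one_smul F v, refl_smul (by simp)]

theorem refl_conj (g : O Q) (v : V) : g * refl Q v * g⁻¹ = refl Q (g.1 v) := by
  refine O_ext fun x => ?_
  rw [O_mul_apply, O_mul_apply, refl_apply, refl_apply, map_sub, map_smul, O_apply_inv_apply,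
    O_map, O_polar_left]

theorem mul_refl (g : O Q) (v : V) : g * refl Q v = refl Q (g.1 v) * g := by
  rw [← refl_conj, inv_mul_cancel_right]

/-- If `x - y` is non-singular and `Q x = Q y`, the reflection in `x - y` maps `x` to `y`. -/
theorem refl_sub_apply {x y : V} (h : Q x = Q y) (hxy : Q (x - y) ≠ 0) :
    (refl Q (x - y)).1 x = y := by
  rw [refl_apply]
  have : polar Q (x - y) x = Q (x - y) := by
    qsimp [polar_comm Q y x]
    rw [← h]; ring
  rw [this, inv_mul_cancel₀ hxy, one_smul, sub_sub_cancel]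

/-! ### Eichler (Siegel) transformations -/

/-- The linear map underlying an Eichler transformation. -/
def eichMap (Q : QuadraticForm F V) (u w : V) : V →ₗ[F] V :=
  LinearMap.id + (Q.polarBilin u).smulRight w - (Q.polarBilin w).smulRight u
    - (Q w • Q.polarBilin u).smulRight u

theorem eichMap_apply (u w x : V) : eichMap Q u w x =
    x + polar Q u x • w - polar Q w x • u - (Q w * polar Q u x) • u := by
  simp [eichMap]

theorem eichMap_eichMap {u w w' : V} (hu : Q u = 0) (hw : polar Q u w = 0)
    (hw' : polar Q u w' = 0) (x : V) :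
    eichMap Q u w (eichMap Q u w' x) = eichMap Q u (w + w') x := by
  simp only [eichMap_apply]
  qsimp [hu, hw, hw', polar_comm Q w u]
  module

theorem eichMap_zero (u x : V) : eichMap Q u 0 x = x := by
  simp [eichMap_apply]

theorem Q_eichMap {u w : V} (hu : Q u = 0) (hw : polar Q u w = 0) (x : V) :
    Q (eichMap Q u w x) = Q x := by
  simp only [eichMap_apply]
  qsimp [hu, hw, polar_comm Q w u, polar_comm Q x u, polar_comm Q x w]
  ring

open Classical in
/-- The Eichler transformation `x ↦ x + B(u,x) w - B(w,x) u - Q(w) B(u,x) u` for `Q u = 0` and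
`B(u,w) = 0` (the identity otherwise). -/
noncomputable def eich (Q : QuadraticForm F V) (u w : V) : O Q :=
  if h : Q u = 0 ∧ polar Q u w = 0 then
    mkO (eichMap Q u w) (eichMap Q u (-w))
      (fun x => by
        rw [eichMap_eichMap h.1 h.2 (by rw [polar_neg_right, h.2, neg_zero]), add_neg_cancel,
          eichMap_zero])
      (fun x => by
        rw [eichMap_eichMap h.1 (by rw [polar_neg_right, h.2, neg_zero]) h.2, neg_add_cancel,
          eichMap_zero])
      (Q_eichMap h.1 h.2)
  else 1

theorem eich_apply {u w : V} (hu : Q u = 0) (hw : polar Q u w = 0) (x : V) :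
    (eich Q u w).1 x = x + polar Q u x • w - polar Q w x • u - (Q w * polar Q u x) • u := by
  rw [eich, dif_pos ⟨hu, hw⟩, mkO_apply, eichMap_apply]

theorem eich_of_not {u w : V} (h : ¬ (Q u = 0 ∧ polar Q u w = 0)) : eich Q u w = 1 := by
  rw [eich, dif_neg h]

theorem eich_add {u w w' : V} (hu : Q u = 0) (hw : polar Q u w = 0) (hw' : polar Q u w' = 0) :
    eich Q u (w + w') = eich Q u w * eich Q u w' := by
  refine O_ext fun x => ?_
  have h3 : polar Q u (w + w') = 0 := by rw [polar_add_right, hw, hw', add_zero]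
  rw [O_mul_apply, eich_apply hu h3, eich_apply hu hw, eich_apply hu hw',
    ← eichMap_apply, ← eichMap_apply, ← eichMap_apply, eichMap_eichMap hu hw hw']

theorem eich_zero (u : V) : eich Q u 0 = 1 := by
  by_cases hu : Q u = 0
  · refine O_ext fun x => ?_
    rw [eich_apply hu (polar_zero_right _ _), ← eichMap_apply, eichMap_zero, O_one_apply]
  · exact eich_of_not fun h => hu h.1

theorem eich_zero_left (w : V) : eich Q 0 w = 1 := by
  refine O_ext fun x => ?_
  rw [eich_apply (map_zero Q) (polar_zero_left _ _), O_one_apply]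
  simp

theorem eich_neg (u w : V) : eich Q u (-w) = (eich Q u w)⁻¹ := by
  by_cases h : Q u = 0 ∧ polar Q u w = 0
  · refine eq_inv_of_mul_eq_one_left ?_
    rw [← eich_add h.1 (by rw [polar_neg_right, h.2, neg_zero]) h.2, neg_add_cancel, eich_zero]
  · rw [eich_of_not h, eich_of_not (by simpa using h), inv_one]

theorem eich_sub {u w w' : V} (hu : Q u = 0) (hw : polar Q u w = 0) (hw' : polar Q u w' = 0) :
    eich Q u (w - w') = eich Q u w * (eich Q u w')⁻¹ := by
  rw [sub_eq_add_neg, eich_add hu hw (by rw [polar_neg_right, hw', neg_zero]), eich_neg]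

theorem eich_comm (u w w' : V) : eich Q u w * eich Q u w' = eich Q u w' * eich Q u w := by
  by_cases h : Q u = 0 ∧ polar Q u w = 0
  · by_cases h' : Q u = 0 ∧ polar Q u w' = 0
    · rw [← eich_add h.1 h.2 h'.2, ← eich_add h.1 h'.2 h.2, add_comm]
    · rw [eich_of_not h', mul_one, one_mul]
  · rw [eich_of_not h, mul_one, one_mul]

theorem eich_smul_self (u : V) (a : F) : eich Q u (a • u) = 1 := by
  by_cases hu : Q u = 0
  · refine O_ext fun x => ?_
    have : polar Q u (a • u) = 0 := by qsimp [hu]; ring
    rw [eich_apply hu this, O_one_apply]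
    qsimp [hu]
    module
  · exact eich_of_not fun h => hu h.1

theorem eich_add_smul_self (u w : V) (a : F) : eich Q u (w + a • u) = eich Q u w := by
  by_cases h : Q u = 0 ∧ polar Q u w = 0
  · rw [eich_add h.1 h.2 (by qsimp [h.1]; ring), eich_smul_self, mul_one]
  · rw [eich_of_not h, eich_of_not]
    rintro ⟨h1, h2⟩
    refine h ⟨h1, ?_⟩
    qsimp [h1] at h2
    simpa using h2

theorem eich_smul_left {a : F} (ha : a ≠ 0) (u w : V) : eich Q (a • u) w = eich Q u (a • w) := by
  by_cases h : Q u = 0 ∧ polar Q u w = 0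
  · refine O_ext fun x => ?_
    rw [eich_apply (by qsimp [h.1]; ring) (by qsimp [h.2]; ring),
      eich_apply h.1 (by qsimp [h.2]; ring)]
    qsimp
    module
  · rw [eich_of_not, eich_of_not]
    · rintro ⟨h1, h2⟩
      refine h ⟨h1, ?_⟩
      qsimp at h2
      simpa [ha] using h2
    · rintro ⟨h1, h2⟩
      qsimp at h1 h2
      exact h ⟨by simpa [ha] using h1, by simpa [ha] using h2⟩

theorem eich_conj (g : O Q) (u w : V) : g * eich Q u w * g⁻¹ = eich Q (g.1 u) (g.1 w) := by
  by_cases h : Q u = 0 ∧ polar Q u w = 0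
  · refine O_ext fun x => ?_
    rw [O_mul_apply, O_mul_apply, eich_apply h.1 h.2,
      eich_apply (by rw [O_map, h.1]) (by rw [O_polar, h.2])]
    simp only [map_sub, map_add, map_smul, O_apply_inv_apply, O_map, O_polar_left]
  · rw [eich_of_not h, eich_of_not (by rwa [O_map, O_polar]), mul_one, mul_inv_cancel]

theorem eich_apply_self (u w : V) : (eich Q u w).1 u = u := by
  by_cases h : Q u = 0 ∧ polar Q u w = 0
  · rw [eich_apply h.1 h.2]
    qsimp [h.1, h.2, polar_comm Q w u]
    simp
  · rw [eich_of_not h, O_one_apply]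

theorem eich_apply_of_orth {u w x : V} (h1 : polar Q u x = 0) (h2 : polar Q w x = 0) :
    (eich Q u w).1 x = x := by
  by_cases h : Q u = 0 ∧ polar Q u w = 0
  · rw [eich_apply h.1 h.2, h1, h2]; simp
  · rw [eich_of_not h, O_one_apply]

theorem eich_apply_of_orth_left {u w x : V} (hu : Q u = 0) (hw : polar Q u w = 0)
    (h1 : polar Q u x = 0) : (eich Q u w).1 x = x - polar Q w x • u := by
  rw [eich_apply hu hw, h1]; simp

/-- antisymmetry for two singular vectors -/
theorem eich_swap {u w : V} (hu : Q u = 0) (hw : Q w = 0) (huw : polar Q u w = 0) :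
    eich Q w u = eich Q u (-w) := by
  refine O_ext fun x => ?_
  rw [eich_apply hw (by rw [polar_comm, huw]), eich_apply hu (by qsimp [huw]; ring)]
  qsimp [hu, hw]
  module

/-- An Eichler transformation with non-singular `w` is a product of two reflections. -/
theorem eich_eq_refl_mul_refl {u w : V} (hu : Q u = 0) (huw : polar Q u w = 0) (hw : Q w ≠ 0) :
    eich Q u w = refl Q (w - Q w • u) * refl Q w := by
  refine O_ext fun x => ?_
  rw [eich_apply hu huw, O_mul_apply, refl_apply, refl_apply]
  qsimp [hu, huw, polar_comm Q w u]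
  match_scalars <;> field_simp <;> ring

/-! ### Non-degeneracy tools -/

theorem polarBilin_isRefl (Q : QuadraticForm F V) : LinearMap.BilinForm.IsRefl Q.polarBilin :=
  fun x y h => by rw [polarBilin_apply_apply, polar_comm]; exact h

theorem eq_zero_of_polar (hQ : Q.polarBilin.Nondegenerate) {x : V}
    (h : ∀ y, polar Q x y = 0) : x = 0 :=
  hQ.1 x h

theorem exists_polar_ne_zero (hQ : Q.polarBilin.Nondegenerate) {x : V} (hx : x ≠ 0) :
    ∃ y, polar Q x y ≠ 0 := by
  by_contra h
  push Not at h
  exact hx (eq_zero_of_polar hQ h)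

theorem nondegenerate_of (h : ∀ x, (∀ y, polar Q x y = 0) → x = 0) :
    Q.polarBilin.Nondegenerate :=
  ⟨h, fun x hx => h x fun y => by rw [polar_comm]; exact hx y⟩

/-- The orthogonal complement of a subspace for the polar form. -/
def perp (Q : QuadraticForm F V) (S : Submodule F V) : Submodule F V :=
  LinearMap.BilinForm.orthogonal Q.polarBilin S

theorem mem_perp {S : Submodule F V} {x : V} : x ∈ perp Q S ↔ ∀ s ∈ S, polar Q s x = 0 :=
  Iff.rfl

theorem mem_perp_span {s : Set V} {x : V} :
    x ∈ perp Q (Submodule.span F s) ↔ ∀ y ∈ s, polar Q y x = 0 := by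
  rw [mem_perp]
  refine ⟨fun h y hy => h y (Submodule.subset_span hy), fun h y hy => ?_⟩
  induction hy using Submodule.span_induction with
  | mem y hy => exact h y hy
  | zero => exact polar_zero_left _ _
  | add y z _ _ h1 h2 => rw [polar_add_left, h1, h2, add_zero]
  | smul a y _ h1 => rw [polar_smul_left', h1, mul_zero]

section FiniteDim
variable [FiniteDimensional F V]

theorem finrank_perp (hQ : Q.polarBilin.Nondegenerate) (S : Submodule F V) :
    finrank F (perp Q S) = finrank F V - finrank F S :=
  LinearMap.BilinForm.finrank_orthogonal hQ S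

theorem finrank_perp_add (hQ : Q.polarBilin.Nondegenerate) (S : Submodule F V) :
    finrank F (perp Q S) + finrank F S = finrank F V := by
  rw [finrank_perp hQ]
  have := Submodule.finrank_le S
  omega

theorem perp_perp (hQ : Q.polarBilin.Nondegenerate) (S : Submodule F V) :
    perp Q (perp Q S) = S :=
  LinearMap.BilinForm.orthogonal_orthogonal hQ (polarBilin_isRefl Q) S

/-- For `x ∉ S` there is a vector orthogonal to `S` pairing to `1` with `x`. -/
theorem exists_polar_eq_one (hQ : Q.polarBilin.Nondegenerate) {S : Submodule F V} {x : V}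
    (hx : x ∉ S) : ∃ z, (∀ s ∈ S, polar Q s z = 0) ∧ polar Q x z = 1 := by
  rw [← perp_perp hQ S, mem_perp] at hx
  push Not at hx
  obtain ⟨z, hz, hzx⟩ := hx
  refine ⟨(polar Q z x)⁻¹ • z, fun s hs => ?_, ?_⟩
  · rw [polar_smul_right', mem_perp.1 hz s hs, mul_zero]
  · rw [polar_smul_right', polar_comm Q x z, inv_mul_cancel₀ hzx]

theorem exists_polar_eq_one_span (hQ : Q.polarBilin.Nondegenerate) {s : Set V} {x : V}
    (hx : x ∉ Submodule.span F s) : ∃ z, (∀ y ∈ s, polar Q y z = 0) ∧ polar Q x z = 1 := by
  obtain ⟨z, h1, h2⟩ := exists_polar_eq_one hQ hx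
  exact ⟨z, fun y hy => h1 y (Submodule.subset_span hy), h2⟩

/-- Hyperbolic partner of a singular vector, orthogonal to a subspace `S ⊥ u` not containing `u`. -/
theorem exists_hyp_partner (hQ : Q.polarBilin.Nondegenerate) {S : Submodule F V} {u : V}
    (hu : Q u = 0) (huS : u ∉ S) (hS : ∀ s ∈ S, polar Q s u = 0) :
    ∃ v, Q v = 0 ∧ polar Q u v = 1 ∧ ∀ s ∈ S, polar Q s v = 0 := by
  obtain ⟨z, h1, h2⟩ := exists_polar_eq_one hQ huS
  refine ⟨z - Q z • u, ?_, ?_, fun s hs => ?_⟩
  · qsimp [hu, polar_comm Q z u, h2]; ring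
  · qsimp [hu, h2]; ring
  · qsimp [h1 s hs, hS s hs]; ring

theorem exists_hyp_partner' (hQ : Q.polarBilin.Nondegenerate) {u : V}
    (hu : Q u = 0) (hu0 : u ≠ 0) : ∃ v, Q v = 0 ∧ polar Q u v = 1 := by
  obtain ⟨v, h1, h2, -⟩ := exists_hyp_partner hQ (S := ⊥) hu (by simpa using hu0)
    (by simp)
  exact ⟨v, h1, h2⟩

/-- A totally singular subspace has dimension at most half of the dimension of the space. -/
theorem two_mul_finrank_le (hQ : Q.polarBilin.Nondegenerate) {S : Submodule F V}
    (hS : ∀ s ∈ S, Q s = 0) : 2 * finrank F S ≤ finrank F V := by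
  have h1 : S ≤ perp Q S := fun x hx => mem_perp.2 fun s hs => by
    rw [polar, hS _ (S.add_mem hs hx), hS _ hs, hS _ hx]; ring
  have := Submodule.finrank_mono h1
  have := finrank_perp_add hQ S
  omega

/-- A subspace of more than half the dimension contains a non-singular vector. -/
theorem exists_ne_zero_of_lt (hQ : Q.polarBilin.Nondegenerate) {S : Submodule F V}
    (hS : finrank F V < 2 * finrank F S) : ∃ s ∈ S, Q s ≠ 0 := by
  by_contra h
  push Not at h
  have := two_mul_finrank_le hQ h
  omega

end FiniteDim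

end CL.Orth
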