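import Cfsg.Agent.Orth.Omega

/-!
# Bridge between `Cfsg.isometryGroup` (matrices) and `CL.Orth.O` (linear automorphisms);
transport along isometries
-/

set_option autoImplicit false

namespace CL.Orth

open QuadraticMap Module Matrix

/-! ### Group theoretic transport -/

/-- An isomorphism of groups restricts to the commutator subgroups. -/
def commutatorCongr {G H : Type*} [Group G] [Group H] (e : G ≃* H) :
    commutator G ≃* commutator H :=
  (e.subgroupMap (commutator G)).trans (MulEquiv.subgroupCongr (by
    rw [map_commutator_eq, MonoidHom.range_eq_top.2 e.surjective, commutator_def]))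

theorem commutatorCongr_coe {G H : Type*} [Group G] [Group H] (e : G ≃* H) (x : commutator G) :
    (commutatorCongr e x : H) = e x := rfl

theorem mem_commutator_congr {G H : Type*} [Group G] [Group H] (e : G ≃* H) (x : G) :
    e x ∈ commutator H ↔ x ∈ commutator G :=
  ⟨fun h => by
    have : e.symm (e x) ∈ commutator G := (commutatorCongr e.symm ⟨_, h⟩).2
    rwa [e.symm_apply_apply] at this, fun h => (commutatorCongr e ⟨_, h⟩).2⟩

theorem index_commutator_congr {G H : Type*} [Group G] [Group H] (e : G ≃* H) :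
    (commutator G).index = (commutator H).index := by
  rw [← Subgroup.index_comap_of_surjective (commutator H) (f := e.toMonoidHom) e.surjective]
  congr 1
  ext x
  exact (mem_commutator_congr e x).symm

theorem map_center_equiv {G H : Type*} [Group G] [Group H] (e : G ≃* H) :
    (Subgroup.center G).map e.toMonoidHom = Subgroup.center H := by
  ext y
  rw [Subgroup.mem_map_equiv, Subgroup.mem_center_iff, Subgroup.mem_center_iff]
  constructor
  · intro h g
    apply e.symm.injective
    rw [map_mul, map_mul, h]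
  · intro h g
    apply e.injective
    rw [map_mul, map_mul, e.apply_symm_apply, h]

/-- An isomorphism of groups induces one of the central quotients. -/
def quotCenterCongr {G H : Type*} [Group G] [Group H] (e : G ≃* H) :
    G ⧸ Subgroup.center G ≃* H ⧸ Subgroup.center H :=
  QuotientGroup.congr _ _ e (map_center_equiv e)

theorem card_center_congr {G H : Type*} [Group G] [Group H] (e : G ≃* H) :
    Nat.card (Subgroup.center G) = Nat.card (Subgroup.center H) := by
  rw [← map_center_equiv e, Subgroup.card_map_of_injective e.injective]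

/-- If every normal subgroup is central or everything, and the group is not abelian, the central
quotient is simple. -/
theorem isSimpleGroup_quot_center {G : Type*} [Group G] (hne : Subgroup.center G ≠ ⊤)
    (h : ∀ N : Subgroup G, N.Normal → N ≤ Subgroup.center G ∨ N = ⊤) :
    IsSimpleGroup (G ⧸ Subgroup.center G) := by
  have : Nontrivial (G ⧸ Subgroup.center G) := QuotientGroup.nontrivial_iff.2 hne
  refine ⟨fun N hN => ?_⟩
  rcases h (N.comap (QuotientGroup.mk' _)) inferInstance with h1 | h1
  · left
    rw [eq_bot_iff]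
    intro x hx
    obtain ⟨x, rfl⟩ := QuotientGroup.mk'_surjective _ x
    exact (QuotientGroup.eq_one_iff x).2 (h1 hx)
  · right
    rw [eq_top_iff]
    intro x _
    obtain ⟨x, rfl⟩ := QuotientGroup.mk'_surjective _ x
    have : x ∈ N.comap (QuotientGroup.mk' _) := h1 ▸ Subgroup.mem_top x
    exact this

/-! ### Transport along isometries -/

section Congr
variable {F V W : Type*} [Field F] [AddCommGroup V] [Module F V] [AddCommGroup W] [Module F W]
  {Q : QuadraticForm F V} {R : QuadraticForm F W}

theorem iso_polar (e : Q.IsometryEquiv R) (x y : V) : polar R (e x) (e y) = polar Q x y := by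
  simp only [polar, ← map_add, e.map_app]

theorem iso_nondegenerate (e : Q.IsometryEquiv R) (hQ : Q.polarBilin.Nondegenerate) :
    R.polarBilin.Nondegenerate :=
  nondegenerate_of fun x hx => by
    obtain ⟨x, rfl⟩ := e.toLinearEquiv.surjective x
    have : x = 0 := eq_zero_of_polar hQ fun y => by rw [← iso_polar e]; exact hx _
    rw [this, map_zero]

/-- Isometric forms have isomorphic orthogonal groups. -/
def OCongr (e : Q.IsometryEquiv R) : O Q ≃* O R where
  toFun g := ⟨(e.toLinearEquiv.symm.trans g.1).trans e.toLinearEquiv, fun x => by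
    show R (e (g.1 (e.symm x))) = R x
    rw [e.map_app, O_map, e.symm.map_app]⟩
  invFun g := ⟨(e.toLinearEquiv.trans g.1).trans e.toLinearEquiv.symm, fun x => by
    show Q (e.symm (g.1 (e x))) = Q x
    rw [e.symm.map_app, O_map, e.map_app]⟩
  left_inv g := O_ext fun x => by
    show e.symm (e (g.1 (e.symm (e x)))) = g.1 x
    simp
  right_inv g := O_ext fun x => by
    show e (e.symm (g.1 (e (e.symm x)))) = g.1 x
    simp
  map_mul' g h := O_ext fun x => by
    show e (g.1 (h.1 (e.symm x))) = e (g.1 (e.symm (e (h.1 (e.symm x)))))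
    simp

theorem OCongr_apply (e : Q.IsometryEquiv R) (g : O Q) (x : W) :
    (OCongr e g).1 x = e (g.1 (e.symm x)) := rfl

theorem OCongr_apply_apply (e : Q.IsometryEquiv R) (g : O Q) (x : V) :
    (OCongr e g).1 (e x) = e (g.1 x) := by
  rw [OCongr_apply, QuadraticMap.IsometryEquiv.symm_apply_apply]

theorem OCongr_refl (e : Q.IsometryEquiv R) (v : V) : OCongr e (refl Q v) = refl R (e v) :=
  O_ext fun x => by
    obtain ⟨x, rfl⟩ : ∃ y, e y = x := e.toLinearEquiv.surjective x
    rw [OCongr_apply_apply, refl_apply, refl_apply, map_sub, map_smul, e.map_app, iso_polar]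

theorem OCongr_negO (e : Q.IsometryEquiv R) : OCongr e (negO Q) = negO R :=
  O_ext fun x => by
    rw [OCongr_apply, negO_apply, negO_apply, map_neg,
      QuadraticMap.IsometryEquiv.apply_symm_apply]

theorem OCongr_eich (e : Q.IsometryEquiv R) (u w : V) :
    OCongr e (eich Q u w) = eich R (e u) (e w) := by
  by_cases h : Q u = 0 ∧ polar Q u w = 0
  · refine O_ext fun x => ?_
    obtain ⟨x, rfl⟩ : ∃ y, e y = x := e.toLinearEquiv.surjective x
    rw [OCongr_apply_apply, eich_apply h.1 h.2,
      eich_apply (by rw [e.map_app, h.1]) (by rw [iso_polar, h.2])]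
    simp only [map_sub, map_add, map_smul, e.map_app, iso_polar]
  · rw [eich_of_not h, eich_of_not (by rwa [e.map_app, iso_polar]), map_one]

theorem card_zero_congr (e : Q.IsometryEquiv R) (c : F) :
    Nat.card {v // Q v = c} = Nat.card {w // R w = c} :=
  Nat.card_congr (e.toLinearEquiv.toEquiv.subtypeEquiv fun x => by
    show Q x = c ↔ R (e x) = c
    rw [e.map_app])

end Congr

/-! ### Matrices -/

variable {F : Type*} [Field F] {ι : Type} [Fintype ι] [DecidableEq ι]

/-- Invertible matrices as linear automorphisms. -/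
noncomputable def glEquiv (ι : Type) [Fintype ι] [DecidableEq ι] (F : Type*) [Field F] :
    GL ι F ≃* ((ι → F) ≃ₗ[F] (ι → F)) :=
  GeneralLinearGroup.toLin.trans (LinearMap.GeneralLinearGroup.generalLinearEquiv F (ι → F))

theorem glEquiv_apply (g : GL ι F) (x : ι → F) : glEquiv ι F g x = (g : Matrix ι ι F) *ᵥ x := rfl

theorem mem_isometryGroup {f : (ι → F) → F} {g : GL ι F} :
    g ∈ Cfsg.isometryGroup F f ↔ ∀ v, f ((g : Matrix ι ι F) *ᵥ v) = f v :=
  ⟨fun h v => h v 0, fun h v _ => h v⟩

/-- The matrix isometry group is the abstract orthogonal group. -/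
noncomputable def bridge (Q : QuadraticForm F (ι → F)) : Cfsg.isometryGroup F ⇑Q ≃* O Q :=
  ((glEquiv ι F).subgroupMap _).trans (MulEquiv.subgroupCongr (by
    ext g
    obtain ⟨g, rfl⟩ := (glEquiv ι F).surjective g
    refine (Subgroup.mem_map_equiv (f := glEquiv ι F)).trans ?_
    rw [MulEquiv.symm_apply_apply, mem_isometryGroup, mem_O]
    rfl))

variable {Q : QuadraticForm F (ι → F)}

theorem bridge_apply (g : Cfsg.isometryGroup F ⇑Q) (x : ι → F) :
    (bridge Q g).1 x = ((g : GL ι F) : Matrix ι ι F) *ᵥ x := rfl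

theorem bridge_symm_mulVec (k : O Q) (x : ι → F) :
    (((bridge Q).symm k : GL ι F) : Matrix ι ι F) *ᵥ x = k.1 x := by
  rw [← bridge_apply, MulEquiv.apply_symm_apply]

theorem bridge_eq_iff (g : Cfsg.isometryGroup F ⇑Q) (k : O Q) (M : Matrix ι ι F)
    (h : ∀ x, M *ᵥ x = k.1 x) : bridge Q g = k ↔ ((g : GL ι F) : Matrix ι ι F) = M := by
  constructor
  · rintro rfl
    exact Matrix.toLin'.injective (LinearMap.ext fun x => (h x).symm)
  · intro h1
    exact O_ext fun x => by rw [bridge_apply, h1, h]

theorem polarVec_dotProduct (v x : ι → F) : Cfsg.polarVec ⇑Q v ⬝ᵥ x = polar Q v x := by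
  conv_rhs => rw [← Finset.univ_sum_single x, ← polarBilin_apply_apply, map_sum]
  refine Finset.sum_congr rfl fun j _ => ?_
  rw [polarBilin_apply_apply, show Pi.single j (x j) = x j • (Pi.single j 1 : ι → F) by
    rw [← Pi.single_smul, smul_eq_mul, mul_one], polar_smul_right', mul_comm]
  rfl

theorem reflectionMatrix_mulVec (v x : ι → F) :
    Cfsg.reflectionMatrix ⇑Q v *ᵥ x = (refl Q v).1 x := by
  rw [Cfsg.reflectionMatrix, refl_apply, sub_mulVec, one_mulVec, smul_mulVec, vecMulVec_mulVec,
    polarVec_dotProduct, op_smul_eq_smul, smul_smul]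

theorem siegelMatrix_mulVec {u v : ι → F} (hu : Q u = 0) (hv : Q v = 0) (huv : polar Q u v = 0)
    (c : F) (x : ι → F) : Cfsg.siegelMatrix ⇑Q u v c *ᵥ x = (eich Q u (c • v)).1 x := by
  rw [Cfsg.siegelMatrix, eich_apply hu (by qsimp [huv]; ring), add_mulVec, one_mulVec, smul_mulVec,
    sub_mulVec, vecMulVec_mulVec, vecMulVec_mulVec, polarVec_dotProduct, polarVec_dotProduct,
    op_smul_eq_smul, op_smul_eq_smul]
  qsimp [hv]
  module

theorem bridge_eq_refl_iff (g : Cfsg.isometryGroup F ⇑Q) (v : ι → F) :
    bridge Q g = refl Q v ↔ ((g : GL ι F) : Matrix ι ι F) = Cfsg.reflectionMatrix ⇑Q v :=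
  bridge_eq_iff g _ _ (reflectionMatrix_mulVec v)

theorem bridge_eq_eich_iff (g : Cfsg.isometryGroup F ⇑Q) {u v : ι → F} (hu : Q u = 0)
    (hv : Q v = 0) (huv : polar Q u v = 0) (c : F) :
    bridge Q g = eich Q u (c • v) ↔
      ((g : GL ι F) : Matrix ι ι F) = Cfsg.siegelMatrix ⇑Q u v c :=
  bridge_eq_iff g _ _ (siegelMatrix_mulVec hu hv huv c)

theorem bridge_eq_negO_iff (g : Cfsg.isometryGroup F ⇑Q) :
    bridge Q g = negO Q ↔ ((g : GL ι F) : Matrix ι ι F) = -1 :=
  bridge_eq_iff g _ _ fun x => by rw [neg_mulVec, one_mulVec, negO_apply]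

theorem det_bridge (g : Cfsg.isometryGroup F ⇑Q) :
    LinearMap.det ((bridge Q g).1 : (ι → F) →ₗ[F] (ι → F)) = ((g : GL ι F) : Matrix ι ι F).det := by
  rw [← LinearMap.det_toLin']
  rfl

theorem bridge_mem_commutator (g : Cfsg.isometryGroup F ⇑Q) :
    bridge Q g ∈ commutator (O Q) ↔ g ∈ Cfsg.Omega F ⇑Q := mem_commutator_congr _ g

theorem index_Omega (Q : QuadraticForm F (ι → F)) :
    (Cfsg.Omega F ⇑Q).index = (commutator (O Q)).index := index_commutator_congr (bridge Q)

/-- `Ω` of the statements is the commutator subgroup of `O Q`. -/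
noncomputable def omegaEquiv (Q : QuadraticForm F (ι → F)) :
    Cfsg.Omega F ⇑Q ≃* commutator (O Q) := commutatorCongr (bridge Q)

/-- `PΩ` of the statements is the central quotient of the commutator subgroup of `O Q`. -/
noncomputable def pomegaEquiv (Q : QuadraticForm F (ι → F)) :
    Cfsg.POmega F ⇑Q ≃* (commutator (O Q) ⧸ Subgroup.center (commutator (O Q))) :=
  quotCenterCongr (omegaEquiv Q)

end CL.Orth
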