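import Cfsg.Agent.Orth.Forms
import Cfsg.Agent.Invol.Dihedral

/-!
# Counting: singular vectors, orders of orthogonal groups, two-dimensional orthogonal groups
-/

set_option autoImplicit false

namespace CL.Orth

open QuadraticMap Module

variable {F V W : Type*} [Field F] [AddCommGroup V] [Module F V] [AddCommGroup W] [Module F W]
  {Q : QuadraticForm F V} {R : QuadraticForm F W}

theorem finite_O [Finite V] (Q : QuadraticForm F V) : Finite (O Q) :=
  Finite.of_injective (fun g : O Q => (g.1 : V → V)) fun _ _ h => O_ext (congrFun h)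

theorem card_O_congr (e : Q.IsometryEquiv R) : Nat.card (O Q) = Nat.card (O R) :=
  Nat.card_congr (OCongr e).toEquiv

/-- The solutions of `hyp Q x = c`. -/
noncomputable def hypSolEquiv (Q : QuadraticForm F V) (c : F) :
    {x : F × F × V // hyp Q x = c} ≃ ({v // Q v = c} × F) ⊕ (Fˣ × V) := by
  classical
  exact
  { toFun := fun x => if h : x.1.1 = 0 then
        Sum.inl (⟨x.1.2.2, by simpa [hyp_apply, h] using x.2⟩, x.1.2.1)
      else Sum.inr (Units.mk0 _ h, x.1.2.2)
    invFun := fun y => match y with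
      | Sum.inl (v, b) => ⟨(0, b, v.1), by simp [hyp_apply, v.2]⟩
      | Sum.inr (a, v) => ⟨(a, (a : F)⁻¹ * (c - Q v), v), by simp [hyp_apply]⟩
    left_inv := by
      rintro ⟨⟨a, b, v⟩, h⟩
      by_cases ha : a = 0
      · subst ha; simp
      · simp only [ha, dite_false, Units.val_mk0, Subtype.mk.injEq, Prod.mk.injEq, and_true,
          true_and]
        rw [← h, hyp_apply]
        field_simp
        ring
    right_inv := by
      rintro (⟨v, b⟩ | ⟨a, v⟩)
      · simp
      · simp }

theorem card_sol_hyp [Finite F] [Finite V] (Q : QuadraticForm F V) (c : F) :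
    Nat.card {x // hyp Q x = c} =
      Nat.card {v // Q v = c} * Nat.card F + (Nat.card F - 1) * Nat.card V := by
  rw [Nat.card_congr (hypSolEquiv Q c), Nat.card_sum, Nat.card_prod, Nat.card_prod,
    Nat.card_units]

omit [Field F] [AddCommGroup V] [Module F V] in
theorem card_hypN_space [Finite F] [Finite V] (m : ℕ) :
    Nat.card ((Fin m → F) × (Fin m → F) × V) = Nat.card F ^ (2 * m) * Nat.card V := by
  simp only [Nat.card_prod, Nat.card_fun, Nat.card_eq_fintype_card (α := Fin m), Fintype.card_fin]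
  ring

theorem one_le_card_field [Finite F] : 1 ≤ Nat.card F := Nat.card_pos

theorem card_sol_hypN [Finite F] [Finite V] (Q : QuadraticForm F V) (c : F) (m : ℕ) :
    (Nat.card {x // hypN m Q x = c} : ℤ) * Nat.card F =
      Nat.card F ^ (m + 1) * Nat.card {v // Q v = c} +
        Nat.card V * Nat.card F ^ m * (Nat.card F ^ m - 1) := by
  induction m with
  | zero => rw [card_zero_congr (hypNZero Q)]; ring
  | succ m ih =>
    rw [card_zero_congr (hypNSucc m Q), card_sol_hyp, card_hypN_space]
    push_cast [Nat.cast_sub (one_le_card_field (F := F))]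
    linear_combination (Nat.card F : ℤ) * ih

theorem ncard_singular_ne_zero [Finite V] (Q : QuadraticForm F V) :
    {x | Q x = 0 ∧ x ≠ 0}.ncard = Nat.card {x // Q x = 0} - 1 := by
  have h1 : {x | Q x = 0 ∧ x ≠ 0} = {x | Q x = 0} \ {0} := by ext; simp
  rw [h1, Set.ncard_sdiff_singleton_of_mem (by simp), ← Nat.card_coe_set_eq]
  rfl

theorem one_le_card_zero [Finite V] (Q : QuadraticForm F V) : 1 ≤ Nat.card {x // Q x = 0} :=
  have : Nonempty {x // Q x = 0} := ⟨⟨0, map_zero Q⟩⟩
  Nat.card_pos

variable [FiniteDimensional F V]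

theorem orbit_singular (hQ : Q.polarBilin.Nondegenerate) {u : V} (hu : Q u = 0) (hu0 : u ≠ 0) :
    MulAction.orbit (O Q) u = {x | Q x = 0 ∧ x ≠ 0} := by
  ext x
  constructor
  · rintro ⟨g, rfl⟩
    exact ⟨(O_map g u).trans hu, (O_apply_eq_zero_iff g u).not.2 hu0⟩
  · rintro ⟨h1, h2⟩
    exact exists_O_apply_eq hQ hu0 h2 (hu.trans h1.symm)

theorem orbit_partner (hQ : Q.polarBilin.Nondegenerate) {u v : V} (h : IsHypPair Q u v) :
    MulAction.orbit (MulAction.stabilizer (O Q) u) v = {x | IsHypPair Q u x} := by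
  ext x
  constructor
  · rintro ⟨⟨g, hg⟩, rfl⟩
    have := h.map g
    rwa [show g.1 u = u from hg] at this
  · intro hx
    obtain ⟨g, h1, h2⟩ := exists_O_hypPair hQ h hx
    exact ⟨⟨g, h1⟩, h2⟩

omit [FiniteDimensional F V] in
theorem ncard_partner_hyp (Q : QuadraticForm F V) :
    {x | IsHypPair (hyp Q) (1, 0, 0) x}.ncard = Nat.card V := by
  rw [← Nat.card_coe_set_eq]
  refine Nat.card_congr
    { toFun := fun x => x.1.2.2
      invFun := fun v => ⟨(-Q v, 1, v), isHypPair_hyp.left, by simp [hyp_apply], by simp [polar_hyp]⟩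
      left_inv := ?_
      right_inv := fun _ => rfl }
  rintro ⟨⟨a, b, v⟩, -, h1, h2⟩
  simp only [polar_hyp, hyp_apply, one_mul, zero_mul, add_zero, polar_zero_left] at h1 h2
  subst h2
  simp only [Subtype.mk.injEq, Prod.mk.injEq, and_true]
  linear_combination -h1

theorem card_O_hyp [Finite F] (hQ : Q.polarBilin.Nondegenerate) :
    Nat.card (O (hyp Q)) = (Nat.card {x // hyp Q x = 0} - 1) * Nat.card V * Nat.card (O Q) := by
  have : Finite V := Module.finite_of_finite F
  have hH := hyp_nondegenerate hQ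
  have hp := isHypPair_hyp (Q := Q)
  rw [← (MulAction.stabilizer (O (hyp Q)) ((1, 0, 0) : F × F × V)).index_mul_card,
    MulAction.index_stabilizer, orbit_singular hH hp.left hp.ne_zero, ncard_singular_ne_zero,
    ← (MulAction.stabilizer (MulAction.stabilizer (O (hyp Q)) ((1, 0, 0) : F × F × V))
      ((0, 1, 0) : F × F × V)).index_mul_card, MulAction.index_stabilizer, orbit_partner hH hp,
    ncard_partner_hyp, mul_assoc]
  congr 2
  rw [← Subgroup.card_map_of_injective (Subgroup.subtype_injective _),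
    Nat.card_congr (MonoidHom.ofInjective (extO_injective (Q := Q))).toEquiv]
  congr 2
  ext g
  rw [mem_range_extO_iff]
  constructor
  · rintro ⟨⟨k, hk⟩, h1, rfl⟩
    exact ⟨hk, h1⟩
  · rintro ⟨h1, h2⟩
    exact ⟨⟨g, h1⟩, h2, rfl⟩

theorem card_O_hypN_succ [Finite F] (hQ : Q.polarBilin.Nondegenerate) (m : ℕ) :
    (Nat.card (O (hypN (m + 1) Q)) : ℤ) = (Nat.card {x // hypN (m + 1) Q x = 0} - 1) *
      (Nat.card F ^ (2 * m) * Nat.card V) * Nat.card (O (hypN m Q)) := by
  have : Finite V := Module.finite_of_finite F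
  rw [card_O_congr (hypNSucc m Q), card_O_hyp (hypN_nondegenerate m hQ),
    card_zero_congr (hypNSucc m Q), card_hypN_space]
  push_cast [Nat.cast_sub (one_le_card_zero _)]
  ring

/-! ### The three families -/

section Families
variable [Finite F]

theorem card_field_ne_zero : (Nat.card F : ℤ) ≠ 0 := by
  have := one_le_card_field (F := F)
  omega

theorem card_zero_plus (m : ℕ) :
    (Nat.card {x // hypN (m + 1) (0 : QuadraticForm F Unit) x = 0} : ℤ) =
      Nat.card F ^ (2 * m + 1) + Nat.card F ^ (m + 1) - Nat.card F ^ m := by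
  have h := card_sol_hypN (0 : QuadraticForm F Unit) 0 (m + 1)
  have h1 : Nat.card {v : Unit // (0 : QuadraticForm F Unit) v = 0} = 1 := by
    rw [Nat.card_eq_one_iff_unique]
    exact ⟨inferInstance, ⟨⟨(), rfl⟩⟩⟩
  rw [h1, Nat.card_unique (α := Unit)] at h
  apply mul_right_cancel₀ (card_field_ne_zero (F := F))
  rw [h]; push_cast; ring

theorem card_zero_odd (m : ℕ) :
    (Nat.card {x // hypN m (QuadraticMap.sq : QuadraticForm F F) x = 0} : ℤ) =
      Nat.card F ^ (2 * m) := by
  have h := card_sol_hypN (QuadraticMap.sq : QuadraticForm F F) 0 m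
  have h1 : Nat.card {v : F // (QuadraticMap.sq : QuadraticForm F F) v = 0} = 1 := by
    rw [Nat.card_eq_one_iff_unique]
    refine ⟨⟨fun a b => Subtype.ext ?_⟩, ⟨⟨0, map_zero _⟩⟩⟩
    exact (mul_self_eq_zero.1 a.2).trans (mul_self_eq_zero.1 b.2).symm
  rw [h1] at h
  apply mul_right_cancel₀ (card_field_ne_zero (F := F))
  rw [h]; push_cast; ring

omit [Finite F] in
theorem binF_eq_zero {a b : F}
    (hab : ∀ z₁ z₂ : F, z₁ ^ 2 + a * z₁ * z₂ + b * z₂ ^ 2 = 0 → z₁ = 0 ∧ z₂ = 0)
    {z : Fin 2 → F} (h : binF a b z = 0) : z = 0 := by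
  rw [binF_apply] at h
  ext i
  fin_cases i
  · exact (hab _ _ h).1
  · exact (hab _ _ h).2

theorem card_zero_minus {a b : F}
    (hab : ∀ z₁ z₂ : F, z₁ ^ 2 + a * z₁ * z₂ + b * z₂ ^ 2 = 0 → z₁ = 0 ∧ z₂ = 0) (m : ℕ) :
    (Nat.card {x // hypN m (binF a b) x = 0} : ℤ) =
      Nat.card F ^ (2 * m + 1) + Nat.card F ^ m - Nat.card F ^ (m + 1) := by
  have h := card_sol_hypN (binF a b) 0 m
  have h1 : Nat.card {v // binF a b v = 0} = 1 := by
    rw [Nat.card_eq_one_iff_unique]
    refine ⟨⟨fun x y => Subtype.ext ?_⟩, ⟨⟨0, map_zero _⟩⟩⟩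
    rw [binF_eq_zero hab x.2, binF_eq_zero hab y.2]
  rw [h1, Nat.card_fun, Nat.card_eq_fintype_card (α := Fin 2), Fintype.card_fin] at h
  apply mul_right_cancel₀ (card_field_ne_zero (F := F))
  rw [h]; push_cast; ring

omit [Finite F] in
theorem card_O_zero : Nat.card (O (0 : QuadraticForm F Unit)) = 1 := by
  rw [Nat.card_eq_one_iff_unique]
  exact ⟨⟨fun _ _ => O_ext fun _ => rfl⟩, ⟨1⟩⟩

omit [Finite F] in
theorem card_O_sq (h2 : (2 : F) ≠ 0) : Nat.card (O (QuadraticMap.sq : QuadraticForm F F)) = 2 := by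
  rw [Nat.card_eq_two_iff' (1 : O (QuadraticMap.sq : QuadraticForm F F))]
  refine ⟨negO _, negO_ne_one h2 (one_ne_zero (α := F)), fun g hg => ?_⟩
  have h1 : g.1 1 * g.1 1 = 1 * 1 := O_map g 1
  have h3 : ∀ x, g.1 x = x * g.1 1 := fun x => by
    rw [← smul_eq_mul, ← map_smul, smul_eq_mul, mul_one]
  rw [mul_one, mul_self_eq_one_iff] at h1
  rcases h1 with h1 | h1
  · exact absurd (O_ext fun x => by rw [h3, h1, mul_one, O_one_apply]) hg
  · exact O_ext fun x => by rw [h3, h1, negO_apply, mul_neg_one]

theorem card_O_plus (m : ℕ) : (Nat.card (O (hypN (m + 1) (0 : QuadraticForm F Unit))) : ℤ) =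
    2 * Nat.card F ^ ((m + 1) * m) * (Nat.card F ^ (m + 1) - 1) *
      ∏ i ∈ Finset.range m, ((Nat.card F : ℤ) ^ (2 * (i + 1)) - 1) := by
  induction m with
  | zero =>
    rw [card_O_hypN_succ zero_nondegenerate, card_zero_plus, card_O_congr (hypNZero _),
      card_O_zero, Nat.card_unique (α := Unit)]
    push_cast; ring
  | succ m ih =>
    rw [card_O_hypN_succ zero_nondegenerate, card_zero_plus, ih, Finset.prod_range_succ,
      Nat.card_unique (α := Unit)]
    push_cast; ring

theorem card_O_odd (h2 : (2 : F) ≠ 0) (m : ℕ) :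
    (Nat.card (O (hypN m (QuadraticMap.sq : QuadraticForm F F))) : ℤ) =
    2 * Nat.card F ^ (m ^ 2) * ∏ i ∈ Finset.range m, ((Nat.card F : ℤ) ^ (2 * (i + 1)) - 1) := by
  induction m with
  | zero => rw [card_O_congr (hypNZero _), card_O_sq h2]; simp
  | succ m ih =>
    rw [card_O_hypN_succ (sq_nondegenerate h2), card_zero_odd, ih, Finset.prod_range_succ]
    ring

end Families

/-! ### Two-dimensional groups -/

section Plane

/-- The diagonal isometries of the hyperbolic plane. -/
def diagO (Q : QuadraticForm F V) : Fˣ →* O (hyp Q) where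
  toFun a := ⟨(LinearEquiv.smulOfUnit a).prodCongr ((LinearEquiv.smulOfUnit a⁻¹).prodCongr
    (LinearEquiv.refl F V)), fun x => by
      show (a : F) * x.1 * (((a⁻¹ : Fˣ) : F) * x.2.1) + Q x.2.2 = x.1 * x.2.1 + Q x.2.2
      rw [mul_mul_mul_comm, Units.mul_inv, one_mul]⟩
  map_one' := O_ext fun x => by
    show (((1 : Fˣ) : F) * x.1, ((1⁻¹ : Fˣ) : F) * x.2.1, x.2.2) = x
    simp
  map_mul' a b := O_ext fun x => by
    show (((a * b : Fˣ) : F) * x.1, (((a * b)⁻¹ : Fˣ) : F) * x.2.1, x.2.2) =
      ((a : F) * ((b : F) * x.1), ((a⁻¹ : Fˣ) : F) * (((b⁻¹ : Fˣ) : F) * x.2.1), x.2.2)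
    simp [mul_assoc, mul_left_comm]

omit [FiniteDimensional F V] in
theorem diagO_apply (a : Fˣ) (x : F × F × V) :
    (diagO Q a).1 x = ((a : F) * x.1, (a : F)⁻¹ * x.2.1, x.2.2) := by
  rw [← Units.val_inv_eq_inv_val]; rfl

omit [FiniteDimensional F V] in
theorem diagO_injective : Function.Injective (diagO Q) := fun a b h => by
  have := congrArg (fun g : O (hyp Q) => (g.1 (1, 0, 0)).1) h
  simp only [diagO_apply, mul_one] at this
  exact Units.ext this

theorem nonempty_equiv_dihedral_of_card {G : Type*} [Group G] [Finite G] {t c : G}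
    (ht : t * t = 1) (h : t * c * t⁻¹ = c⁻¹) (htc : t ∉ Subgroup.zpowers c)
    (hG : Nat.card G = 2 * orderOf c) : Nonempty (G ≃* DihedralGroup (orderOf c)) := by
  obtain ⟨e⟩ := CL.Invol.nonempty_equiv_dihedral_of_inverts ht h htc
  have h1 : Subgroup.closure ({t, c} : Set G) = ⊤ := by
    apply Subgroup.eq_top_of_card_eq
    rw [Nat.card_congr e.toEquiv, DihedralGroup.nat_card, hG]
  rw [h1] at e
  exact ⟨Subgroup.topEquiv.symm.trans e⟩

theorem nonempty_O_plus_equiv_dihedral [Finite F] :
    Nonempty (O (hyp (0 : QuadraticForm F Unit)) ≃* DihedralGroup (Nat.card F - 1)) := by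
  have := finite_O (hyp (0 : QuadraticForm F Unit))
  obtain ⟨a, ha⟩ := IsCyclic.exists_generator (α := Fˣ)
  have h1 : orderOf (diagO (0 : QuadraticForm F Unit) a) = Nat.card F - 1 := by
    rw [orderOf_injective _ diagO_injective, orderOf_eq_card_of_forall_mem_zpowers ha,
      Nat.card_units]
  rw [← h1]
  have h2 : ∀ x, (refl (hyp (0 : QuadraticForm F Unit)) (1, -1, 0)).1 x = (x.2.1, x.1, x.2.2) := by
    intro x
    rw [refl_apply, polar_hyp, hyp_apply]
    ext <;> simp [polar]
  refine nonempty_equiv_dihedral_of_card (refl_mul_self (1, -1, 0)) ?_ ?_ ?_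
  · rw [refl_inv, ← map_inv]
    refine O_ext fun x => ?_
    rw [O_mul_apply, O_mul_apply, h2, h2, diagO_apply, diagO_apply]
    simp
  · rw [← MonoidHom.map_zpowers]
    rintro ⟨b, -, hb⟩
    have := congrArg (fun g : O (hyp (0 : QuadraticForm F Unit)) => (g.1 (1, 0, 0)).1) hb
    simp [h2, diagO_apply] at this
  · have h3 := card_O_plus (F := F) 0
    rw [card_O_congr ((hypNSucc 0 (0 : QuadraticForm F Unit)).trans
      (hypCongr (hypNZero (0 : QuadraticForm F Unit))))] at h3
    have := one_le_card_field (F := F)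
    rw [h1]
    zify [this]
    rw [h3]; simp

/-- The norm form of a quadratic algebra. -/
def normForm (a b : F) : QuadraticForm F (QuadraticAlgebra F (-b) a) :=
  (binF a b).comp (QuadraticAlgebra.linearEquivTuple (-b) a).toLinearMap

theorem normForm_apply (a b : F) (z : QuadraticAlgebra F (-b) a) : normForm a b z = z.norm := by
  rw [normForm, QuadraticMap.comp_apply, binF_apply, QuadraticAlgebra.norm_def]
  simp; ring

/-- The binary form is the norm form. -/
def normIso (a b : F) : (normForm a b).IsometryEquiv (binF a b) where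
  toLinearEquiv := QuadraticAlgebra.linearEquivTuple (-b) a
  map_app' _ := rfl

/-- Multiplication by elements of norm one. -/
def mulO (a b : F) :
    (Units.map (QuadraticAlgebra.norm (R := F) (a := -b) (b := a))).ker →* O (normForm a b) where
  toFun u := ⟨(DistribMulAction.toLinearEquiv F _ u.1), fun x => by
    have h : (u.1 : QuadraticAlgebra F (-b) a).norm = 1 := congrArg Units.val u.2
    show normForm a b (u.1 * x) = _
    rw [normForm_apply, normForm_apply, map_mul, h, one_mul]⟩
  map_one' := O_ext fun x => one_mul x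
  map_mul' u v := O_ext fun x => mul_assoc _ _ x

theorem mulO_apply (a b : F)
    (u : (Units.map (QuadraticAlgebra.norm (R := F) (a := -b) (b := a))).ker)
    (x : QuadraticAlgebra F (-b) a) : (mulO a b u).1 x = u.1 * x := rfl

theorem mulO_injective (a b : F) : Function.Injective (mulO a b) := fun u v h => by
  have := congrArg (fun g : O (normForm a b) => g.1 1) h
  simp only [mulO_apply, mul_one] at this
  exact Subtype.ext (Units.ext this)

/-- Conjugation as a linear map. -/
def starLin (a b : F) : QuadraticAlgebra F (-b) a →ₗ[F] QuadraticAlgebra F (-b) a where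
  toFun := star
  map_add' := star_add
  map_smul' c x := by
    ext
    · simp; ring
    · simp

/-- Conjugation as an isometry. -/
def starO (a b : F) : O (normForm a b) :=
  mkO (starLin a b) (starLin a b) (fun x => star_star x) (fun x => star_star x) (fun x => by
    rw [normForm_apply, normForm_apply]; exact QuadraticAlgebra.norm_star x)

theorem starO_apply (a b : F) (x : QuadraticAlgebra F (-b) a) : (starO a b).1 x = star x := rfl

theorem nonempty_O_minus_equiv_dihedral [Finite F] {a b : F}
    (hab : ∀ z₁ z₂ : F, z₁ ^ 2 + a * z₁ * z₂ + b * z₂ ^ 2 = 0 → z₁ = 0 ∧ z₂ = 0) :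
    Nonempty (O (binF a b) ≃* DihedralGroup (Nat.card F + 1)) := by
  have : Fact (∀ r : F, r ^ 2 ≠ -b + a * r) := ⟨fun r hr => by
    have := (hab r (-1) (by linear_combination hr)).2
    simp at this⟩
  have hdisc := disc_ne_zero hab
  have : Finite (QuadraticAlgebra F (-b) a) := Module.finite_of_finite F
  have := finite_O (normForm a b)
  have hcard : Nat.card (QuadraticAlgebra F (-b) a) = Nat.card F ^ 2 := by
    rw [Nat.card_congr (QuadraticAlgebra.equivProd (-b) a), Nat.card_prod, pow_two]
  have hsurj : (Units.map (QuadraticAlgebra.norm (R := F) (a := -b) (b := a))).range = ⊤ := by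
    rw [eq_top_iff]
    intro c _
    obtain ⟨z, hz⟩ : ∃ z : QuadraticAlgebra F (-b) a, z.norm = c := by
      by_cases h2 : (2 : F) = 0
      · obtain ⟨s, hs⟩ := isSquare_of_two_eq_zero h2 (c : F)
        exact ⟨algebraMap F _ s, by rw [QuadraticAlgebra.norm_algebraMap, hs, pow_two]⟩
      · obtain ⟨v, hv⟩ := exists_Q_eq_of_odd h2 (binF_nondegenerate hdisc) (by simp) (c : F)
        exact ⟨(normIso a b).symm v, by rw [← normForm_apply, (normIso a b).symm.map_app, hv]⟩
    have hz0 : z ≠ 0 := by rintro rfl; exact c.ne_zero (by rw [← hz]; simp)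
    exact ⟨Units.mk0 z hz0, Units.ext hz⟩
  have hker : Nat.card (Units.map (QuadraticAlgebra.norm (R := F) (a := -b) (b := a))).ker =
      Nat.card F + 1 := by
    have h1 := (Units.map (QuadraticAlgebra.norm (R := F) (a := -b) (b := a))).ker.index_mul_card
    rw [Subgroup.index_ker, hsurj, Subgroup.card_top, Nat.card_units, Nat.card_units, hcard] at h1
    have h2 : 2 ≤ Nat.card F := Finite.one_lt_card
    apply mul_left_cancel₀ (show Nat.card F - 1 ≠ 0 by omega)
    rw [h1]
    zify [show 1 ≤ Nat.card F by omega, show 1 ≤ Nat.card F ^ 2 from Nat.one_le_pow _ _ (by omega)]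
    ring
  obtain ⟨u, hu⟩ := IsCyclic.exists_generator
    (α := (Units.map (QuadraticAlgebra.norm (R := F) (a := -b) (b := a))).ker)
  have h1 : orderOf (mulO a b u) = Nat.card F + 1 := by
    rw [orderOf_injective _ (mulO_injective a b), orderOf_eq_card_of_forall_mem_zpowers hu, hker]
  have hss : starO a b * starO a b = 1 := O_ext fun x => star_star x
  have hinv : starO a b * mulO a b u * (starO a b)⁻¹ = (mulO a b u)⁻¹ := by
    rw [inv_eq_of_mul_eq_one_right hss, eq_inv_iff_mul_eq_one]
    refine O_ext fun x => ?_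
    have h : (u.1 : QuadraticAlgebra F (-b) a).norm = 1 := congrArg Units.val u.2
    simp only [O_mul_apply, starO_apply, mulO_apply, O_one_apply, star_mul', star_star]
    rw [← mul_assoc, mul_comm (star _), ← QuadraticAlgebra.algebraMap_norm_eq_mul_star, h, map_one,
      one_mul]
  have hω : star (QuadraticAlgebra.omega : QuadraticAlgebra F (-b) a) ≠ QuadraticAlgebra.omega := by
    intro h
    have h3 := congrArg QuadraticAlgebra.re h
    have h4 := congrArg QuadraticAlgebra.im h
    simp only [QuadraticAlgebra.re_star, QuadraticAlgebra.im_star, QuadraticAlgebra.omega_re,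
      QuadraticAlgebra.omega_im] at h3 h4
    apply hdisc
    linear_combination (-a) * h3 - 2 * b * h4
  have hnot : starO a b ∉ Subgroup.zpowers (mulO a b u) := by
    rw [← MonoidHom.map_zpowers]
    rintro ⟨v, -, hv⟩
    have h3 := congrArg (fun g : O (normForm a b) => g.1 1) hv
    have h4 := congrArg (fun g : O (normForm a b) => g.1 QuadraticAlgebra.omega) hv
    simp only [mulO_apply, starO_apply, mul_one, star_one] at h3 h4
    rw [h3, one_mul] at h4
    exact hω h4.symm
  obtain ⟨e⟩ := CL.Invol.nonempty_equiv_dihedral_of_inverts hss hinv hnot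
  have htop : Subgroup.closure ({starO a b, mulO a b u} : Set (O (normForm a b))) = ⊤ := by
    rw [eq_top_iff]
    intro g _
    have hs : starO a b ∈ Subgroup.closure ({starO a b, mulO a b u} : Set (O (normForm a b))) :=
      Subgroup.subset_closure (by simp)
    have hm : ∀ v, mulO a b v ∈
        Subgroup.closure ({starO a b, mulO a b u} : Set (O (normForm a b))) := by
      intro v
      obtain ⟨k, rfl⟩ := hu v
      rw [map_zpow]
      exact Subgroup.zpow_mem _ (Subgroup.subset_closure (by simp)) _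
    have hg1 : (g.1 1).norm = 1 := by
      rw [← normForm_apply, O_map, normForm_apply, map_one]
    have hg0 : g.1 1 ≠ 0 := (O_apply_eq_zero_iff g 1).not.2 one_ne_zero
    let v : (Units.map (QuadraticAlgebra.norm (R := F) (a := -b) (b := a))).ker :=
      ⟨Units.mk0 _ hg0, Units.ext hg1⟩
    suffices (mulO a b v)⁻¹ * g ∈
        Subgroup.closure ({starO a b, mulO a b u} : Set (O (normForm a b))) by
      simpa using Subgroup.mul_mem _ (hm v) this
    generalize hk : (mulO a b v)⁻¹ * g = k
    have hk1 : k.1 1 = 1 := by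
      rw [← hk, O_mul_apply, O_inv_apply_eq_iff, mulO_apply, mul_one]; rfl
    have hk2 := O_map k QuadraticAlgebra.omega
    have hk3 := O_map k (1 + QuadraticAlgebra.omega)
    rw [map_add, hk1] at hk3
    simp only [normForm_apply, QuadraticAlgebra.norm_def, QuadraticAlgebra.re_add,
      QuadraticAlgebra.im_add, QuadraticAlgebra.omega_re, QuadraticAlgebra.omega_im,
      QuadraticAlgebra.re_one, QuadraticAlgebra.im_one] at hk2 hk3
    have hk4 : (k.1 QuadraticAlgebra.omega - QuadraticAlgebra.omega) *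
        (k.1 QuadraticAlgebra.omega - star QuadraticAlgebra.omega) = 0 := by
      ext
      · simp
        linear_combination (-1 - (k.1 QuadraticAlgebra.omega).re) * hk2 +
          (k.1 QuadraticAlgebra.omega).re * hk3
      · simp
        linear_combination (-(k.1 QuadraticAlgebra.omega).im) * hk2 +
          (k.1 QuadraticAlgebra.omega).im * hk3
    have hx : ∀ x : QuadraticAlgebra F (-b) a, k.1 x =
        x.re • (1 : QuadraticAlgebra F (-b) a) + x.im • k.1 QuadraticAlgebra.omega := by
      intro x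
      have : x = x.re • (1 : QuadraticAlgebra F (-b) a) + x.im • QuadraticAlgebra.omega := by
        ext <;> simp [QuadraticAlgebra.re_one, QuadraticAlgebra.im_one]
      conv_lhs => rw [this, map_add, map_smul, map_smul, hk1]
    rcases mul_eq_zero.1 hk4 with h | h
    · have : k = 1 := O_ext fun x => by
        rw [hx, sub_eq_zero.1 h, O_one_apply]
        ext <;> simp [QuadraticAlgebra.re_one, QuadraticAlgebra.im_one]
      rw [this]; exact Subgroup.one_mem _
    · have : k = starO a b := O_ext fun x => by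
        rw [hx, sub_eq_zero.1 h, starO_apply]
        ext <;> simp [QuadraticAlgebra.re_one, QuadraticAlgebra.im_one, mul_comm]
      rw [this]; exact hs
  rw [htop, h1] at e
  exact ⟨(OCongr (normIso a b)).symm.trans (Subgroup.topEquiv.symm.trans e)⟩

end Plane

theorem card_O_minus [Finite F] {a b : F}
    (hab : ∀ z₁ z₂ : F, z₁ ^ 2 + a * z₁ * z₂ + b * z₂ ^ 2 = 0 → z₁ = 0 ∧ z₂ = 0) (m : ℕ) :
    (Nat.card (O (hypN m (binF a b))) : ℤ) =
    2 * Nat.card F ^ ((m + 1) * m) * (Nat.card F ^ (m + 1) + 1) *
      ∏ i ∈ Finset.range m, ((Nat.card F : ℤ) ^ (2 * (i + 1)) - 1) := by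
  induction m with
  | zero =>
    obtain ⟨e⟩ := nonempty_O_minus_equiv_dihedral hab
    rw [card_O_congr (hypNZero _), Nat.card_congr e.toEquiv, DihedralGroup.nat_card]
    push_cast; ring
  | succ m ih =>
    rw [card_O_hypN_succ (binF_nondegenerate (disc_ne_zero hab)), card_zero_minus hab, ih,
      Finset.prod_range_succ, Nat.card_fun, Nat.card_eq_fintype_card (α := Fin 2), Fintype.card_fin]
    push_cast; ring

end CL.Orth
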