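import Cfsg.Agent.Orth.Basic

/-!
# Generation of the orthogonal group; the Eichler subgroup

* `O_gen`: `O Q` is generated by reflections and Siegel transformations.
* `closure_refl_eq_top`: Cartan-Dieudonne for tame forms (everything except `O₄⁺(2)`).
* `E Q`: the normal subgroup generated by the Eichler transformations.
-/

set_option autoImplicit false

namespace CL.Orth

open QuadraticMap Module

variable {F V : Type*} [Field F] [AddCommGroup V] [Module F V] {Q : QuadraticForm F V}

/-- The fixed space of an isometry. -/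
def fix (g : O Q) : Submodule F V where
  carrier := {x | g.1 x = x}
  add_mem' {a b} ha hb := by
    show g.1 (a + b) = a + b
    rw [map_add, show g.1 a = a from ha, show g.1 b = b from hb]
  zero_mem' := map_zero g.1
  smul_mem' c x hx := by
    show g.1 (c • x) = c • x
    rw [map_smul, show g.1 x = x from hx]

theorem mem_fix {g : O Q} {x : V} : x ∈ fix g ↔ g.1 x = x := Iff.rfl

theorem fix_inv (g : O Q) : fix g⁻¹ = fix g := by
  ext x
  rw [mem_fix, mem_fix, O_inv_apply_eq_iff]

theorem fix_one : fix (1 : O Q) = ⊤ := by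
  ext x; simp [mem_fix]

theorem fix_eq_top_iff (g : O Q) : fix g = ⊤ ↔ g = 1 := by
  refine ⟨fun h => O_ext fun x => ?_, fun h => h ▸ fix_one⟩
  have : x ∈ fix g := h ▸ Submodule.mem_top
  exact this

theorem polar_sub_of_mem_fix {g : O Q} {z : V} (hz : z ∈ fix g) (x : V) :
    polar Q z (g.1 x - x) = 0 := by
  rw [polar_sub_right, ← O_polar g z x, mem_fix.1 hz, sub_self]

theorem polar_self_sub (g : O Q) (x : V) : polar Q x (g.1 x - x) = - Q (g.1 x - x) := by
  qsimp [O_map, polar_comm Q (g.1 x) x]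
  ring

/-- One step of the generation argument: a non-trivial isometry can be multiplied by a reflection
or a Siegel transformation (in vectors orthogonal to its fixed space) to enlarge the fixed space. -/
theorem exists_fix_lt (hQ : Q.polarBilin.Nondegenerate) {g : O Q} (hg : g ≠ 1) :
    (∃ v, Q v ≠ 0 ∧ v ∈ perp Q (fix g) ∧ fix g < fix (refl Q v * g)) ∨
    (∃ u w, Q u = 0 ∧ Q w = 0 ∧ polar Q u w = 0 ∧ u ∈ perp Q (fix g) ∧ w ∈ perp Q (fix g) ∧
      fix g < fix (eich Q u w * g)) := by
  by_cases h : ∃ x, Q (g.1 x - x) ≠ 0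
  · obtain ⟨x, hx⟩ := h
    refine Or.inl ⟨g.1 x - x, hx, fun z hz => polar_sub_of_mem_fix hz x, ?_⟩
    refine SetLike.lt_iff_le_and_exists.2 ⟨fun z hz => ?_, x, ?_, fun h => ?_⟩
    · rw [mem_fix, O_mul_apply, mem_fix.1 hz, refl_apply_of_orth]
      rw [polar_comm]; exact polar_sub_of_mem_fix hz x
    · rw [mem_fix, O_mul_apply, refl_sub_apply (O_map g x) hx]
    · rw [mem_fix.1 h, sub_self, map_zero] at hx
      exact hx rfl
  · push Not at h
    obtain ⟨x, hx⟩ : ∃ x, g.1 x ≠ x := by
      by_contra h'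
      push Not at h'
      exact hg (O_ext h')
    have hx' : (g⁻¹).1 x - x ≠ 0 := by
      rw [sub_ne_zero, Ne, O_inv_apply_eq_iff]; exact hx
    obtain ⟨y0, hy0⟩ := exists_polar_ne_zero hQ hx'
    obtain ⟨y, hy⟩ : ∃ y, polar Q x (g.1 y - y) = 1 := by
      refine ⟨(polar Q ((g⁻¹).1 x - x) y0)⁻¹ • y0, ?_⟩
      rw [polar_sub_right, O_polar_right, ← polar_sub_left, polar_smul_right',
        inv_mul_cancel₀ hy0]
    have huw : polar Q (g.1 x - x) (g.1 y - y) = 0 := by
      have := h (x + y)
      rw [map_add, show g.1 x + g.1 y - (x + y) = (g.1 x - x) + (g.1 y - y) by abel, Q_add,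
        h, h] at this
      simpa using this
    refine Or.inr ⟨g.1 x - x, g.1 y - y, h x, h y, huw, fun z hz => polar_sub_of_mem_fix hz x,
      fun z hz => polar_sub_of_mem_fix hz y, ?_⟩
    refine SetLike.lt_iff_le_and_exists.2 ⟨fun z hz => ?_, x, ?_, fun h => hx h⟩
    · rw [mem_fix, O_mul_apply, mem_fix.1 hz, eich_apply_of_orth]
      · rw [polar_comm]; exact polar_sub_of_mem_fix hz x
      · rw [polar_comm]; exact polar_sub_of_mem_fix hz y
    · have h1 : polar Q (g.1 x - x) x = 0 := by
        rw [polar_comm, polar_self_sub, h, neg_zero]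
      have h2 : g.1 x = (g.1 x - x) + x := by abel
      rw [mem_fix, O_mul_apply, eich_apply_of_orth_left (h x) huw]
      · have : polar Q (g.1 y - y) (g.1 x) = 1 := by
          rw [h2, polar_add_right, polar_comm, huw, polar_comm, hy, zero_add]
        rw [this]; simp
      · conv_lhs => arg 3; rw [h2]
        rw [polar_add_right, h1, polar_self', h]; simp

section FiniteDim
variable [FiniteDimensional F V]

/-- Relative generation theorem: an isometry fixing `U` pointwise is a product of reflections and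
Siegel transformations in vectors orthogonal to `U`. -/
theorem O_gen_rel (hQ : Q.polarBilin.Nondegenerate) (U : Submodule F V) (K : Subgroup (O Q))
    (h1 : ∀ v ∈ perp Q U, Q v ≠ 0 → refl Q v ∈ K)
    (h2 : ∀ u ∈ perp Q U, ∀ w ∈ perp Q U, Q u = 0 → Q w = 0 → polar Q u w = 0 → eich Q u w ∈ K)
    (g : O Q) (hg : U ≤ fix g) : g ∈ K := by
  induction hn : finrank F V - finrank F (fix g) using Nat.strong_induction_on generalizing g with
  | _ n ih =>
  by_cases hg1 : g = 1
  · rw [hg1]; exact K.one_mem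
  have key : ∀ k : O Q, k ∈ K → fix g < fix (k * g) → g ∈ K := by
    intro k hk hlt
    have h3 := Submodule.finrank_lt_finrank_of_lt hlt
    have h4 := Submodule.finrank_le (fix (k * g))
    have := ih _ (by omega) (k * g) (hg.trans hlt.le) rfl
    simpa using K.mul_mem (K.inv_mem hk) this
  rcases exists_fix_lt hQ hg1 with ⟨v, hv, hv', hlt⟩ | ⟨u, w, hu, hw, huw, hu', hw', hlt⟩
  · exact key _ (h1 v (fun s hs => hv' s (hg hs)) hv) hlt
  · exact key _ (h2 u (fun s hs => hu' s (hg hs)) w (fun s hs => hw' s (hg hs)) hu hw huw) hlt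

/-- `O Q` is generated by reflections and Siegel transformations. -/
theorem O_gen (hQ : Q.polarBilin.Nondegenerate) (K : Subgroup (O Q))
    (h1 : ∀ v, Q v ≠ 0 → refl Q v ∈ K)
    (h2 : ∀ u w, Q u = 0 → Q w = 0 → polar Q u w = 0 → eich Q u w ∈ K) : K = ⊤ :=
  eq_top_iff.2 fun g _ => O_gen_rel hQ ⊥ K (fun v _ => h1 v) (fun u _ w _ => h2 u w) g bot_le

end FiniteDim

/-! ### Tame forms -/

/-- `Q` is tame when a singular vector `w` orthogonal to and independent of a singular `u` is a sum of
two non-singular vectors orthogonal to `u`. For non-degenerate forms this fails only for `O₄⁺(2)`. -/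
def Tame (Q : QuadraticForm F V) : Prop :=
  ∀ u w, Q u = 0 → Q w = 0 → polar Q u w = 0 → u ≠ 0 → w ∉ Submodule.span F {u} →
    ∃ z, polar Q u z = 0 ∧ Q z ≠ 0 ∧ Q (w - z) ≠ 0

theorem finrank_span_pair {u w : V} (hu : u ≠ 0) (hw : w ∉ Submodule.span F {u}) :
    finrank F (Submodule.span F {u, w}) = 2 := by
  have hli : LinearIndependent F ![u, w] := by
    rw [LinearIndependent.pair_iff' hu]
    intro a ha
    exact hw (Submodule.mem_span_singleton.2 ⟨a, ha⟩)
  have := finrank_span_eq_card hli
  rw [Matrix.range_cons, Matrix.range_cons, Matrix.range_empty, Set.union_empty,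
    Fintype.card_fin] at this
  exact this

theorem finrank_span_pair_le (u w : V) : finrank F (Submodule.span F {u, w}) ≤ 2 := by
  classical
  have := finrank_span_finset_le_card (R := F) ({u, w} : Finset V)
  rw [Set.finrank, Finset.coe_insert, Finset.coe_singleton] at this
  exact this.trans Finset.card_le_two

theorem finrank_span_triple_le (u w z : V) : finrank F (Submodule.span F {u, w, z}) ≤ 3 := by
  classical
  have := finrank_span_finset_le_card (R := F) ({u, w, z} : Finset V)
  rw [Set.finrank, Finset.coe_insert, Finset.coe_insert, Finset.coe_singleton] at this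
  exact this.trans Finset.card_le_three

theorem singular_span_pair {u w : V} (hu : Q u = 0) (hw : Q w = 0) (huw : polar Q u w = 0) :
    ∀ s ∈ Submodule.span F {u, w}, Q s = 0 := by
  intro s hs
  obtain ⟨a, b, rfl⟩ := Submodule.mem_span_pair.1 hs
  qsimp [hu, hw, huw]; ring

theorem tame_of_no_line (h : ∀ u w, Q u = 0 → Q w = 0 → polar Q u w = 0 → u ≠ 0 →
    w ∈ Submodule.span F {u}) : Tame Q :=
  fun u w hu hw huw hu0 hwu => absurd (h u w hu hw huw hu0) hwu

section FiniteDim
variable [FiniteDimensional F V]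

theorem tame_of_field (hQ : Q.polarBilin.Nondegenerate) (hF : ∃ a : F, a ≠ 0 ∧ a ≠ 1) :
    Tame Q := by
  intro u w hu hw huw hu0 hwu
  obtain ⟨a, ha0, ha1⟩ := hF
  obtain ⟨z, hz, hwz, huz⟩ := exists_hyp_partner hQ hw hwu (fun s hs => by
    obtain ⟨c, rfl⟩ := Submodule.mem_span_singleton.1 hs
    rw [polar_smul_left', huw, mul_zero])
  have huz' := huz u (Submodule.mem_span_singleton_self u)
  refine ⟨z + a • w, ?_, ?_, ?_⟩
  · qsimp [huz', huw]; ring
  · qsimp [hz, hw, polar_comm Q z w, hwz]; simpa using ha0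
  · qsimp [hz, hw, polar_comm Q z w, hwz]
    intro h
    apply ha1
    linear_combination h

theorem tame_of_finrank_ne_four (hQ : Q.polarBilin.Nondegenerate) (h4 : finrank F V ≠ 4) :
    Tame Q := by
  intro u w hu hw huw hu0 hwu
  have h1 := finrank_span_pair hu0 hwu
  have h2 := two_mul_finrank_le hQ (singular_span_pair hu hw huw)
  have h3 := finrank_perp_add hQ (Submodule.span F {u, w})
  obtain ⟨z, hz, hz0⟩ := exists_ne_zero_of_lt hQ (S := perp Q (Submodule.span F {u, w}))
    (by omega)
  rw [mem_perp_span] at hz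
  refine ⟨z, hz u (by simp), hz0, ?_⟩
  qsimp [hw, hz w (by simp)]
  simpa using hz0

theorem tame_of_card [Fintype F] (hQ : Q.polarBilin.Nondegenerate)
    (h : Fintype.card F ≠ 2 ∨ finrank F V ≠ 4) : Tame Q := by
  rcases h with h | h
  · refine tame_of_field hQ ?_
    by_contra h'
    push Not at h'
    classical
    have : (Finset.univ : Finset F) = {0, 1} := by
      ext a
      by_cases ha : a = 0
      · simp [ha]
      · simp [h' a ha]
    apply h
    rw [← Finset.card_univ, this, Finset.card_pair zero_ne_one]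
  · exact tame_of_finrank_ne_four hQ h

end FiniteDim

/-- For a tame form the Eichler transformations `eich u w` with `w` non-singular generate all those
with the same `u`. -/
theorem eich_mem_of_tame (hT : Tame Q) (K : Subgroup (O Q)) {u : V}
    (h : ∀ w, polar Q u w = 0 → Q w ≠ 0 → eich Q u w ∈ K) (w : V) : eich Q u w ∈ K := by
  by_cases h0 : Q u = 0 ∧ polar Q u w = 0
  swap
  · rw [eich_of_not h0]; exact K.one_mem
  obtain ⟨hu, huw⟩ := h0
  by_cases hw : Q w = 0
  swap
  · exact h w huw hw
  by_cases hu0 : u = 0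
  · rw [hu0, eich_zero_left]; exact K.one_mem
  by_cases hwu : w ∈ Submodule.span F {u}
  · obtain ⟨c, rfl⟩ := Submodule.mem_span_singleton.1 hwu
    rw [eich_smul_self]; exact K.one_mem
  obtain ⟨z, hz1, hz2, hz3⟩ := hT u w hu hw huw hu0 hwu
  have h3 : polar Q u (w - z) = 0 := by rw [polar_sub_right, huw, hz1, sub_zero]
  rw [← sub_add_cancel w z, eich_add hu h3 hz1]
  exact K.mul_mem (h _ h3 hz3) (h _ hz1 hz2)

theorem eich_mem_of_refl_mem (hT : Tame Q) (K : Subgroup (O Q))
    (h : ∀ v, Q v ≠ 0 → refl Q v ∈ K) (u w : V) : eich Q u w ∈ K := by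
  by_cases hu : Q u = 0
  swap
  · rw [eich_of_not fun h => hu h.1]; exact K.one_mem
  refine eich_mem_of_tame hT K (fun w huw hw => ?_) w
  rw [eich_eq_refl_mul_refl hu huw hw]
  refine K.mul_mem (h _ ?_) (h _ hw)
  qsimp [hu, polar_comm Q w u, huw]
  simpa using hw

/-- Cartan-Dieudonne: a subgroup containing all reflections is everything. -/
theorem eq_top_of_refl_mem [FiniteDimensional F V] (hQ : Q.polarBilin.Nondegenerate) (hT : Tame Q)
    (K : Subgroup (O Q)) (h : ∀ v, Q v ≠ 0 → refl Q v ∈ K) : K = ⊤ :=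
  O_gen hQ K h fun u w _ _ _ => eich_mem_of_refl_mem hT K h u w

theorem closure_refl_eq_top [FiniteDimensional F V] (hQ : Q.polarBilin.Nondegenerate)
    (hT : Tame Q) : Subgroup.closure {g : O Q | ∃ v, Q v ≠ 0 ∧ g = refl Q v} = ⊤ :=
  eq_top_of_refl_mem hQ hT _ fun v hv => Subgroup.subset_closure ⟨v, hv, rfl⟩

/-- Induction principle: every isometry of a tame form is a product of reflections. -/
theorem refl_induction [FiniteDimensional F V] (hQ : Q.polarBilin.Nondegenerate) (hT : Tame Q)
    {p : O Q → Prop} (h1 : p 1) (hmul : ∀ v g, Q v ≠ 0 → p g → p (refl Q v * g)) (g : O Q) :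
    p g := by
  have hg : g ∈ Subgroup.closure {g : O Q | ∃ v, Q v ≠ 0 ∧ g = refl Q v} := by
    rw [closure_refl_eq_top hQ hT]; trivial
  induction hg using Subgroup.closure_induction_left with
  | one => exact h1
  | mul_left x hx y _ hy =>
    obtain ⟨v, hv, rfl⟩ := hx
    exact hmul v y hv hy
  | inv_mul_cancel x hx y _ hy =>
    obtain ⟨v, hv, rfl⟩ := hx
    rw [refl_inv]
    exact hmul v y hv hy

/-- Every isometry of a tame form is the product of a list of reflections. -/
theorem exists_refl_list [FiniteDimensional F V] (hQ : Q.polarBilin.Nondegenerate) (hT : Tame Q)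
    (g : O Q) : ∃ l : List V, (∀ v ∈ l, Q v ≠ 0) ∧ g = (l.map (refl Q)).prod := by
  refine refl_induction hQ hT (p := fun g => ∃ l : List V, (∀ v ∈ l, Q v ≠ 0) ∧
    g = (l.map (refl Q)).prod) ⟨[], by simp, by simp⟩ ?_ g
  rintro v g hv ⟨l, hl, rfl⟩
  refine ⟨v :: l, ?_, by simp⟩
  intro x hx
  rcases List.mem_cons.1 hx with rfl | hx
  · exact hv
  · exact hl x hx

/-! ### The Eichler subgroup -/

/-- The subgroup generated by all Eichler transformations. -/
def E (Q : QuadraticForm F V) : Subgroup (O Q) :=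
  Subgroup.closure {g | ∃ u w, g = eich Q u w}

theorem eich_mem_E (u w : V) : eich Q u w ∈ E Q := Subgroup.subset_closure ⟨u, w, rfl⟩

theorem E_le {K : Subgroup (O Q)}
    (h : ∀ u w, Q u = 0 → polar Q u w = 0 → eich Q u w ∈ K) : E Q ≤ K := by
  rw [E, Subgroup.closure_le]
  rintro _ ⟨u, w, rfl⟩
  by_cases h0 : Q u = 0 ∧ polar Q u w = 0
  · exact h u w h0.1 h0.2
  · rw [eich_of_not h0]; exact K.one_mem

instance E_normal (Q : QuadraticForm F V) : (E Q).Normal := by
  refine ⟨fun n hn g => ?_⟩
  have : E Q ≤ (E Q).comap (MulAut.conj g).toMonoidHom := E_le fun u w _ _ => by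
    show g * eich Q u w * g⁻¹ ∈ E Q
    rw [eich_conj]; exact eich_mem_E _ _
  exact this hn

/-! ### Transitivity on vectors -/

section FiniteDim
variable [FiniteDimensional F V]

/-- If `y - x` is singular and `x` is not a multiple of it, an Eichler transformation maps `x` to
`y`; it can be chosen to fix a subspace `S` orthogonal to `y - x` with `x ∉ S + ⟨y - x⟩`. -/
theorem exists_eich_apply_eq (hQ : Q.polarBilin.Nondegenerate) {x y : V} (h : Q x = Q y)
    (hxy : Q (y - x) = 0) (S : Submodule F V) (hx : x ∉ S ⊔ Submodule.span F {y - x}) :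
    ∃ z, polar Q (y - x) z = 0 ∧ (∀ s ∈ S, polar Q s z = 0) ∧ (eich Q (y - x) z).1 x = y := by
  obtain ⟨z, hz1, hz2⟩ := exists_polar_eq_one hQ hx
  have h1 : polar Q (y - x) z = 0 :=
    hz1 _ (Submodule.mem_sup_right (Submodule.mem_span_singleton_self _))
  have h2 : polar Q (y - x) x = 0 := by
    qsimp [← h] at hxy ⊢
    linear_combination -hxy
  refine ⟨-z, by rw [polar_neg_right, h1, neg_zero], fun s hs => by
    rw [polar_neg_right, hz1 s (Submodule.mem_sup_left hs), neg_zero], ?_⟩
  rw [eich_apply_of_orth_left hxy (by rw [polar_neg_right, h1, neg_zero]) h2, polar_neg_left,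
    polar_comm, hz2]
  simp

/-- The orthogonal group is transitive on non-zero vectors of a given norm. -/
theorem exists_O_apply_eq (hQ : Q.polarBilin.Nondegenerate) {x y : V} (hx : x ≠ 0) (hy : y ≠ 0)
    (h : Q x = Q y) : ∃ g : O Q, g.1 x = y := by
  have key : ∀ x y : V, Q x = Q y → x ∉ Submodule.span F {y - x} → ∃ g : O Q, g.1 x = y := by
    intro x y h hxy
    by_cases h0 : Q (y - x) = 0
    · obtain ⟨z, -, -, hz⟩ := exists_eich_apply_eq hQ h h0 ⊥ (by simpa using hxy)
      exact ⟨_, hz⟩
    · refine ⟨refl Q (x - y), refl_sub_apply h ?_⟩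
      rwa [← neg_sub, QuadraticMap.map_neg]
  by_cases hxy : x ∈ Submodule.span F {y - x}
  swap
  · exact key x y h hxy
  by_cases h0 : Q (y - x) = 0
  swap
  · refine ⟨refl Q (x - y), refl_sub_apply h ?_⟩
    rwa [← neg_sub, QuadraticMap.map_neg]
  obtain ⟨c, hc⟩ := Submodule.mem_span_singleton.1 hxy
  have hx0 : Q x = 0 := by rw [← hc, Q_smul, h0, mul_zero]
  have hc0 : c ≠ 0 := by rintro rfl; rw [zero_smul] at hc; exact hx hc.symm
  have hyx : y = (c⁻¹ + 1) • x := by
    have : y - x = c⁻¹ • x := by rw [← hc, smul_smul, inv_mul_cancel₀ hc0, one_smul, hc]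
    rw [add_smul, ← this, one_smul, sub_add_cancel]
  have hd : c⁻¹ + 1 ≠ 0 := by intro h; rw [h, zero_smul] at hyx; exact hy hyx
  obtain ⟨v, hv, hxv⟩ := exists_hyp_partner' hQ hx0 hx
  have h1 : (refl Q (x - v)).1 x = v := refl_sub_apply (hx0.trans hv.symm) (by
    qsimp [hx0, hv, hxv]; simp)
  have h2 : (refl Q (v - y)).1 v = y := refl_sub_apply (hv.trans (hx0.symm.trans h)) (by
    rw [hyx]; qsimp [hx0, hv, polar_comm Q v x, hxv]
    intro h; apply hd; linear_combination -h)
  exact ⟨refl Q (v - y) * refl Q (x - v), by rw [O_mul_apply, h1, h2]⟩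

/-- Reflections in vectors of the same norm are conjugate. -/
theorem refl_isConj (hQ : Q.polarBilin.Nondegenerate) {x y : V} (h : Q x = Q y) :
    IsConj (refl Q x) (refl Q y) := by
  by_cases hx : Q x = 0
  · rw [refl_of_zero hx, refl_of_zero (h ▸ hx)]
  have hx0 : x ≠ 0 := by rintro rfl; exact hx (map_zero Q)
  have hy0 : y ≠ 0 := by rintro rfl; exact hx (h.trans (map_zero Q))
  obtain ⟨g, hg⟩ := exists_O_apply_eq hQ hx0 hy0 h
  exact isConj_iff.2 ⟨g, by rw [refl_conj, hg]⟩

/-- For tame forms the Eichler subgroup is contained in the commutator subgroup. -/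
theorem E_le_commutator (hQ : Q.polarBilin.Nondegenerate) (hT : Tame Q) :
    E Q ≤ commutator (O Q) := by
  refine E_le fun u w hu _ => eich_mem_of_tame hT _ (fun w huw hw => ?_) w
  rw [eich_eq_refl_mul_refl hu huw hw]
  have : Q w = Q (w - Q w • u) := by qsimp [hu, polar_comm Q w u, huw]; ring
  obtain ⟨g, hg⟩ := isConj_iff.1 (refl_isConj hQ this)
  rw [← hg]
  have := Subgroup.commutator_mem_commutator (Subgroup.mem_top g) (Subgroup.mem_top (refl Q w))
  rwa [commutatorElement_def, refl_inv] at this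

end FiniteDim

end CL.Orth
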