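import Cfsg.Agent.Orth.Gen

/-!
# The spinor norm

For a homomorphism `χ : Fˣ →* A` killing squares there is a homomorphism `θ : O Q →* A` with
`θ (refl v) = χ (Q v)`. The proof goes through the Clifford algebra.
-/

set_option autoImplicit false

namespace CL.Orth

open QuadraticMap Module CliffordAlgebra

variable {F V : Type*} [Field F] [AddCommGroup V] [Module F V] {Q : QuadraticForm F V}

theorem clifford_nontrivial (Q : QuadraticForm F V) : Nontrivial (CliffordAlgebra Q) := by
  obtain ⟨B, hB⟩ := LinearMap.BilinMap.toQuadraticMap_surjective (R := F) (M := V) (N := F) (0 - Q)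
  have e := changeFormEquiv (Q := Q) (Q' := 0) (B := B) hB
  have : Nontrivial (CliffordAlgebra (0 : QuadraticForm F V)) :=
    inferInstanceAs (Nontrivial (ExteriorAlgebra F V))
  exact e.symm.injective.nontrivial

theorem ι_mul_sub_involute_mul_ι (x : V) (a : CliffordAlgebra Q) :
    ι Q x * a - involute a * ι Q x = contractLeft (Q.polarBilin x) a := by
  induction a using CliffordAlgebra.left_induction with
  | algebraMap r =>
    rw [AlgHom.commutes, contractLeft_algebraMap, Algebra.commutes, sub_self]
  | add a b ha hb => rw [map_add, map_add, mul_add, add_mul, ← ha, ← hb]; abel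
  | ι_mul a m ha =>
    rw [contractLeft_ι_mul, ← ha, map_mul, involute_ι, ← mul_assoc, ι_mul_ι_comm,
      polarBilin_apply_apply, Algebra.smul_def]
    noncomm_ring

/-- elements of the Clifford algebra that are polynomials in the vectors of `W` -/
inductive InCl (Q : QuadraticForm F V) (W : Submodule F V) : CliffordAlgebra Q → Prop
  | alg (r : F) : InCl Q W (algebraMap F _ r)
  | add {a b : CliffordAlgebra Q} : InCl Q W a → InCl Q W b → InCl Q W (a + b)
  | mul {w : V} {a : CliffordAlgebra Q} : w ∈ W → InCl Q W a → InCl Q W (ι Q w * a)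

theorem InCl.smul {W : Submodule F V} {a : CliffordAlgebra Q} (h : InCl Q W a) (r : F) :
    InCl Q W (r • a) := by
  induction h with
  | alg s => rw [Algebra.smul_def, ← map_mul]; exact InCl.alg _
  | add _ _ ha hb => rw [smul_add]; exact ha.add hb
  | mul hw _ ha => rw [← mul_smul_comm]; exact ha.mul hw

theorem InCl.zero {W : Submodule F V} : InCl Q W 0 := by
  simpa using InCl.alg (Q := Q) (W := W) 0

theorem InCl.top (a : CliffordAlgebra Q) : InCl Q ⊤ a := by
  induction a using CliffordAlgebra.left_induction with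
  | algebraMap r => exact InCl.alg r
  | add a b ha hb => exact ha.add hb
  | ι_mul a m ha => exact ha.mul trivial

theorem InCl.contract {W : Submodule F V} {a : CliffordAlgebra Q} (h : InCl Q W a)
    (d : Module.Dual F V) (hd : ∀ w ∈ W, d w = 0) : contractLeft d a = 0 := by
  induction h with
  | alg s => exact contractLeft_algebraMap _ _ _
  | add _ _ ha hb => rw [map_add, ha, hb, add_zero]
  | mul hw _ ha => rw [contractLeft_ι_mul, ha, hd _ hw, zero_smul, mul_zero, sub_zero]

theorem InCl.split {W : Submodule F V} {e : V} {a : CliffordAlgebra Q}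
    (h : InCl Q (Submodule.span F {e} ⊔ W) a) :
    ∃ x y, InCl Q W x ∧ InCl Q W y ∧ a = x + ι Q e * y := by
  induction h with
  | alg s => exact ⟨_, 0, InCl.alg s, InCl.zero, by simp⟩
  | add _ _ ha hb =>
    obtain ⟨x, y, hx, hy, rfl⟩ := ha
    obtain ⟨x', y', hx', hy', rfl⟩ := hb
    exact ⟨x + x', y + y', hx.add hx', hy.add hy', by rw [mul_add]; abel⟩
  | @mul w a hw _ ha =>
    obtain ⟨x, y, hx, hy, rfl⟩ := ha
    obtain ⟨z, hz, w', hw', rfl⟩ := Submodule.mem_sup.1 hw
    obtain ⟨c, rfl⟩ := Submodule.mem_span_singleton.1 hz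
    refine ⟨ι Q w' * x + (polar Q w' e + c * Q e) • y, c • x + (-1 : F) • (ι Q w' * y),
      (hx.mul hw').add (hy.smul _), (hx.smul _).add ((hy.mul hw').smul _), ?_⟩
    have h1 : ι Q e * (ι Q e * y) = Q e • y := by
      rw [← mul_assoc, ι_sq_scalar, Algebra.smul_def]
    have h2 : ι Q w' * (ι Q e * y) = polar Q w' e • y - ι Q e * (ι Q w' * y) := by
      rw [← mul_assoc, ι_mul_ι_comm, Algebra.smul_def, sub_mul, mul_assoc]
    simp only [map_add, map_smul, add_mul, mul_add, smul_mul_assoc, mul_smul_comm, h1, h2]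
    module

theorem eq_algebraMap_of_contract [FiniteDimensional F V] {a : CliffordAlgebra Q}
    (h : ∀ d : Module.Dual F V, contractLeft d a = 0) : ∃ r : F, a = algebraMap F _ r := by
  classical
  have key : ∀ s : Finset V, InCl Q (Submodule.span F (s : Set V)) a →
      ∃ r : F, a = algebraMap F _ r := by
    intro s
    induction s using Finset.induction_on with
    | empty =>
      intro hs
      clear h
      rw [Finset.coe_empty, Submodule.span_empty] at hs
      induction hs with
      | alg r => exact ⟨r, rfl⟩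
      | add _ _ ha hb =>
        obtain ⟨r, rfl⟩ := ha
        obtain ⟨s, rfl⟩ := hb
        exact ⟨r + s, by rw [map_add]⟩
      | mul hw _ _ => exact ⟨0, by rw [(Submodule.mem_bot F).1 hw]; simp⟩
    | insert e s _ ih =>
      intro hs
      apply ih
      by_cases he : e ∈ Submodule.span F (s : Set V)
      · rwa [Finset.coe_insert, Submodule.span_insert_eq_span he] at hs
      · rw [Finset.coe_insert, Submodule.span_insert] at hs
        obtain ⟨x, y, hx, hy, rfl⟩ := hs.split
        obtain ⟨d, hd1, hd2⟩ := Submodule.exists_dual_map_eq_bot_of_notMem he inferInstance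
        have hd : ∀ w ∈ Submodule.span F (s : Set V), d w = 0 := fun w hw => by
          have : d w ∈ (Submodule.span F (s : Set V)).map d := Submodule.mem_map_of_mem hw
          rwa [hd2, Submodule.mem_bot] at this
        have := h d
        rw [map_add, contractLeft_ι_mul, hx.contract d hd, hy.contract d hd, zero_add, mul_zero,
          sub_zero, smul_eq_zero] at this
        rw [this.resolve_left hd1, mul_zero, add_zero]
        exact hx
  obtain ⟨s, hs⟩ := Module.Finite.fg_top (R := F) (M := V)
  exact key s (hs ▸ InCl.top a)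

/-- `c` is a spinor norm of `g`. -/
def SpinRel (g : O Q) (c : F) : Prop :=
  ∃ a : CliffordAlgebra Q, (∀ x, involute a * ι Q x = ι Q (g.1 x) * a) ∧
    a * reverse a = algebraMap F _ c

theorem spinRel_one : SpinRel (1 : O Q) 1 := ⟨1, fun x => by simp, by simp⟩

theorem SpinRel.mul {g h : O Q} {c d : F} (hg : SpinRel g c) (hh : SpinRel h d) :
    SpinRel (g * h) (c * d) := by
  obtain ⟨a, ha1, ha2⟩ := hg
  obtain ⟨b, hb1, hb2⟩ := hh
  refine ⟨a * b, fun x => ?_, ?_⟩
  · rw [map_mul, mul_assoc, hb1, ← mul_assoc, ha1, mul_assoc, O_mul_apply]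
  · rw [reverse.map_mul, mul_assoc, ← mul_assoc b, hb2, Algebra.commutes, ← mul_assoc, ha2,
      map_mul]

theorem spinRel_refl {v : V} (hv : Q v ≠ 0) : SpinRel (refl Q v) (Q v) := by
  refine ⟨ι Q v, fun x => ?_, by rw [reverse_ι, ι_sq_scalar]⟩
  rw [involute_ι, refl_apply, map_sub, map_smul, sub_mul, smul_mul_assoc, ι_sq_scalar,
    Algebra.smul_def, ← map_mul (algebraMap F (CliffordAlgebra Q)), ι_mul_ι_comm x v,
    polar_comm Q x v,
    show (Q v)⁻¹ * polar Q v x * Q v = polar Q v x by field_simp]
  noncomm_ring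

variable [FiniteDimensional F V]

theorem SpinRel.isSquare (hQ : Q.polarBilin.Nondegenerate) {c : F} (h : SpinRel (1 : O Q) c) :
    IsSquare c := by
  obtain ⟨a, ha1, ha2⟩ := h
  obtain ⟨r, rfl⟩ := eq_algebraMap_of_contract (a := a) fun d => by
    obtain ⟨x, rfl⟩ := (LinearMap.BilinForm.toDual Q.polarBilin hQ).surjective d
    have := ι_mul_sub_involute_mul_ι x a
    rw [ha1, O_one_apply, sub_self] at this
    exact this.symm
  rw [reverse.commutes, ← map_mul] at ha2
  have := clifford_nontrivial Q
  exact ⟨r, ((algebraMap F (CliffordAlgebra Q)).injective ha2).symm⟩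

theorem exists_spinRel (hQ : Q.polarBilin.Nondegenerate) (hT : Tame Q) (g : O Q) :
    ∃ c : Fˣ, SpinRel g c := by
  refine refl_induction hQ hT (p := fun g => ∃ c : Fˣ, SpinRel g c) ⟨1, spinRel_one⟩ ?_ g
  rintro v g hv ⟨c, hc⟩
  exact ⟨Units.mk0 _ hv * c, (spinRel_refl hv).mul hc⟩

/-- A product of reflections equal to the identity has square norm product. -/
theorem isSquare_prod_of_prod_refl_eq_one (hQ : Q.polarBilin.Nondegenerate) (l : List V)
    (hl : ∀ v ∈ l, Q v ≠ 0) (h : (l.map (refl Q)).prod = 1) : IsSquare (l.map Q).prod := by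
  refine SpinRel.isSquare hQ (h ▸ ?_)
  clear h
  induction l with
  | nil => exact spinRel_one
  | cons v l ih =>
    rw [List.map_cons, List.map_cons, List.prod_cons, List.prod_cons]
    exact (spinRel_refl (hl v (by simp))).mul (ih fun w hw => hl w (by simp [hw]))

/-- Existence of the spinor norm, composed with any character of `Fˣ` killing the squares. -/
theorem exists_spinorNorm (hQ : Q.polarBilin.Nondegenerate) (hT : Tame Q) {A : Type*} [Group A]
    (χ : Fˣ →* A) (hχ : ∀ a, χ (a * a) = 1) :
    ∃ θ : O Q →* A, (∀ (g : O Q) (c : Fˣ), SpinRel g c → θ g = χ c) ∧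
      ∀ v (hv : Q v ≠ 0), θ (refl Q v) = χ (Units.mk0 (Q v) hv) := by
  choose c hc using exists_spinRel hQ hT
  have h1 : ∀ d : Fˣ, SpinRel (1 : O Q) d → χ d = 1 := by
    intro d hd
    obtain ⟨r, hr⟩ := hd.isSquare hQ
    have hr0 : r ≠ 0 := by rintro rfl; exact d.ne_zero (by rw [hr, mul_zero])
    rw [show d = Units.mk0 r hr0 * Units.mk0 r hr0 from Units.ext hr, hχ]
  have h2 : ∀ (g : O Q) (d : Fˣ), SpinRel g d → χ (c g) = χ d := by
    intro g d hd
    have h3 := h1 (c g * c g⁻¹) (by simpa using (hc g).mul (hc g⁻¹))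
    have h4 := h1 (d * c g⁻¹) (by simpa using hd.mul (hc g⁻¹))
    rw [map_mul] at h3 h4
    exact mul_right_cancel (h3.trans h4.symm)
  refine ⟨MonoidHom.mk' (fun g => χ (c g)) fun g h => ?_, h2, fun v hv => h2 _ _ (spinRel_refl hv)⟩
  rw [← map_mul]
  exact h2 _ _ ((hc g).mul (hc h))

end CL.Orth
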