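import Cfsg.Agent.Orth.Dickson
import Cfsg.Agent.Orth.Spinor
import Cfsg.Agent.Auto.ACL_Orth_dickson_fe5554

/-!
# The commutator subgroup `Ω` of the orthogonal group

* `E_eq_commutator`: for tame isotropic forms of dimension at least three `Ω` is generated by the
  Eichler transformations (any field).
* `exists_spin_odd`, `index_commutator_odd`, `index_commutator_even`: over finite fields `Ω` is the
  common kernel of the Dickson invariant and the spinor norm.
-/

set_option autoImplicit false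

namespace CL.Orth

open QuadraticMap Module

variable {F V : Type*} [Field F] [AddCommGroup V] [Module F V] {Q : QuadraticForm F V}

/-- `(u, v)` is a hyperbolic pair. -/
structure IsHypPair (Q : QuadraticForm F V) (u v : V) : Prop where
  left : Q u = 0
  right : Q v = 0
  pol : polar Q u v = 1

theorem IsHypPair.symm {u v : V} (h : IsHypPair Q u v) : IsHypPair Q v u :=
  ⟨h.right, h.left, by rw [polar_comm, h.pol]⟩

theorem IsHypPair.pol' {u v : V} (h : IsHypPair Q u v) : polar Q v u = 1 := h.symm.pol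

theorem IsHypPair.map {u v : V} (h : IsHypPair Q u v) (g : O Q) :
    IsHypPair Q (g.1 u) (g.1 v) :=
  ⟨by rw [O_map, h.left], by rw [O_map, h.right], by rw [O_polar, h.pol]⟩

theorem IsHypPair.ne_zero {u v : V} (h : IsHypPair Q u v) : u ≠ 0 := by
  rintro rfl
  have := h.pol
  rw [polar_zero_left] at this
  exact zero_ne_one this

theorem IsHypPair.Q_comb {u v : V} (h : IsHypPair Q u v) (a b : F) :
    Q (a • u + b • v) = a * b := by
  qsimp [h.left, h.right, h.pol]; ring

theorem IsHypPair.not_mem_span {u v : V} (h : IsHypPair Q u v) :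
    v ∉ Submodule.span F {u} := by
  intro hv
  obtain ⟨c, rfl⟩ := Submodule.mem_span_singleton.1 hv
  have := h.pol
  qsimp [h.left] at this
  simp at this

theorem IsHypPair.eq_zero_of_orth {u v x : V} (h : IsHypPair Q u v)
    (hx : x ∈ Submodule.span F {u, v}) (h1 : polar Q u x = 0) (h2 : polar Q v x = 0) : x = 0 := by
  obtain ⟨a, b, rfl⟩ := Submodule.mem_span_pair.1 hx
  qsimp [h.left, h.right, h.pol, h.pol'] at h1 h2
  have ha : a = 0 := by linear_combination h2
  have hb : b = 0 := by linear_combination h1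
  simp [ha, hb]

/-- The component of `x` orthogonal to the hyperbolic plane. -/
theorem IsHypPair.polar_left_proj {u v : V} (h : IsHypPair Q u v) (x : V) :
    polar Q u (x - polar Q v x • u - polar Q u x • v) = 0 := by
  qsimp [h.left, h.right, h.pol, h.pol']; ring

theorem IsHypPair.polar_right_proj {u v : V} (h : IsHypPair Q u v) (x : V) :
    polar Q v (x - polar Q v x • u - polar Q u x • v) = 0 := by
  qsimp [h.left, h.right, h.pol, h.pol']; ring

/-- An Eichler transformation with centre `u` moves a vector not orthogonal to `u` into the hyperbolic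
plane. -/
theorem IsHypPair.exists_eich_move {u v : V} (h : IsHypPair Q u v) {x : V}
    (hx : polar Q u x ≠ 0) : ∃ w, polar Q u w = 0 ∧ polar Q v w = 0 ∧
      (eich Q u w).1 x = (Q x / polar Q u x) • u + polar Q u x • v := by
  set w0 := x - polar Q v x • u - polar Q u x • v with hw0
  have h1 : polar Q u w0 = 0 := h.polar_left_proj x
  have h2 : polar Q v w0 = 0 := h.polar_right_proj x
  have h3 : polar Q u (-((polar Q u x)⁻¹ • w0)) = 0 := by qsimp [h1]; ring
  refine ⟨-((polar Q u x)⁻¹ • w0), h3, by qsimp [h2]; ring, ?_⟩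
  rw [eich_apply h.left h3, hw0]
  qsimp [h.left, h.right, h.pol, h.pol', polar_comm Q x u, polar_comm Q x v]
  match_scalars <;> field_simp <;> ring

theorem IsHypPair.refl_mul_refl {u v : V} (h : IsHypPair Q u v) {r s t : F} (hr : r ≠ 0)
    (hs : s ≠ 0) (ht : t ≠ 0) :
    refl Q (u + r • v) * refl Q (u + (r * t) • v) =
      refl Q (u + s • v) * refl Q (u + (s * t) • v) := by
  refine O_ext fun x => ?_
  have hq : ∀ c : F, Q (u + c • v) = c := fun c => by
    qsimp [h.left, h.right, h.pol]; ring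
  simp only [O_mul_apply, refl_apply, hq]
  qsimp [h.left, h.right, h.pol, h.pol']
  match_scalars <;> field_simp <;> ring

section FiniteDim
variable [FiniteDimensional F V]

theorem IsHypPair.exists_orth (hQ : Q.polarBilin.Nondegenerate) {u v : V} (h : IsHypPair Q u v)
    {x : V} (hx : x ≠ 0) (h1 : polar Q u x = 0) (h2 : polar Q v x = 0) :
    ∃ z, polar Q u z = 0 ∧ polar Q v z = 0 ∧ polar Q x z = 1 := by
  obtain ⟨z, hz1, hz2⟩ := exists_polar_eq_one_span hQ (s := {u, v}) (x := x)
    fun hm => hx (h.eq_zero_of_orth hm h1 h2)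
  exact ⟨z, hz1 u (by simp), hz1 v (by simp), hz2⟩

/-- In dimension at least three there is a non-singular vector orthogonal to a hyperbolic pair. -/
theorem IsHypPair.exists_nonsingular (hQ : Q.polarBilin.Nondegenerate) {u v : V}
    (h : IsHypPair Q u v) (h3 : 3 ≤ finrank F V) :
    ∃ w, polar Q u w = 0 ∧ polar Q v w = 0 ∧ Q w ≠ 0 := by
  have h1 := finrank_span_pair_le (F := F) u v
  have h2 := finrank_perp_add hQ (Submodule.span F {u, v})
  have h4 : perp Q (Submodule.span F {u, v}) ≠ ⊥ := by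
    intro h0
    rw [h0, finrank_bot] at h2
    omega
  obtain ⟨x, hx, hx0⟩ := Submodule.exists_mem_ne_zero_of_ne_bot h4
  rw [mem_perp_span] at hx
  have hux := hx u (by simp)
  have hvx := hx v (by simp)
  obtain ⟨z, hz1, hz2, hz3⟩ := h.exists_orth hQ hx0 hux hvx
  by_cases hQx : Q x = 0
  swap
  · exact ⟨x, hux, hvx, hQx⟩
  by_cases hQz : Q z = 0
  swap
  · exact ⟨z, hz1, hz2, hQz⟩
  exact ⟨x + z, by qsimp [hux, hz1]; ring, by qsimp [hvx, hz2]; ring, by
    qsimp [hQx, hQz, hz3]; simp⟩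

/-- A non-zero vector orthogonal to the hyperbolic plane can be moved into the plane, with any
prescribed first coordinate. -/
theorem IsHypPair.exists_E_move_of_orth (hQ : Q.polarBilin.Nondegenerate) {u v : V}
    (h : IsHypPair Q u v) {x : V} (hx : x ≠ 0) (h1 : polar Q u x = 0) (h2 : polar Q v x = 0)
    {a : F} (ha : a ≠ 0) : ∃ e ∈ E Q, e.1 x = a • u + (Q x / a) • v := by
  obtain ⟨z, hz1, hz2, hz3⟩ := h.exists_orth hQ hx h1 h2
  have h3 : polar Q u (-(a • z)) = 0 := by qsimp [hz1]; ring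
  have h4 : (eich Q u (-(a • z))).1 x = x + a • u := by
    rw [eich_apply_of_orth_left h.left h3 h1]
    qsimp [polar_comm Q z x, hz3]
    module
  have h5 : polar Q v (x + a • u) = a := by qsimp [h2, h.pol']; ring
  obtain ⟨w, -, -, hw⟩ := h.symm.exists_eich_move (x := x + a • u) (by rwa [h5])
  refine ⟨eich Q v w * eich Q u (-(a • z)), (E Q).mul_mem (eich_mem_E _ _) (eich_mem_E _ _), ?_⟩
  rw [O_mul_apply, h4, hw, h5, ← h4, O_map, add_comm]

/-- Every non-zero vector can be moved into the hyperbolic plane by the Eichler subgroup. -/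
theorem IsHypPair.exists_E_move (hQ : Q.polarBilin.Nondegenerate) {u v : V}
    (h : IsHypPair Q u v) {x : V} (hx : x ≠ 0) : ∃ e ∈ E Q, ∃ a b : F, e.1 x = a • u + b • v := by
  by_cases h1 : polar Q u x = 0
  swap
  · obtain ⟨w, -, -, hw⟩ := h.exists_eich_move h1
    exact ⟨_, eich_mem_E _ _, _, _, hw⟩
  by_cases h2 : polar Q v x = 0
  swap
  · obtain ⟨w, -, -, hw⟩ := h.symm.exists_eich_move h2
    exact ⟨_, eich_mem_E _ _, _, _, by rw [hw, add_comm]⟩
  obtain ⟨e, he, hex⟩ := h.exists_E_move_of_orth hQ hx h1 h2 one_ne_zero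
  exact ⟨e, he, _, _, hex⟩

omit [FiniteDimensional F V] in
theorem mk_refl_apply {e : O Q} (he : e ∈ E Q) (x : V) :
    (QuotientGroup.mk (refl Q (e.1 x)) : O Q ⧸ E Q) = QuotientGroup.mk (refl Q x) := by
  rw [← refl_conj, QuotientGroup.mk_mul, QuotientGroup.mk_mul, QuotientGroup.mk_inv,
    (QuotientGroup.eq_one_iff e).2 he, one_mul, inv_one, mul_one]

theorem IsHypPair.exists_mk_refl (hQ : Q.polarBilin.Nondegenerate) {u v : V}
    (h : IsHypPair Q u v) {x : V} (hx : Q x ≠ 0) : ∃ r : F, r ≠ 0 ∧ (∃ t, r = Q x * (t * t)) ∧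
      (QuotientGroup.mk (refl Q x) : O Q ⧸ E Q) = QuotientGroup.mk (refl Q (u + r • v)) := by
  obtain ⟨e, he, a, b, hab⟩ := h.exists_E_move hQ (x := x) (by rintro rfl; exact hx (map_zero Q))
  have h1 : a * b = Q x := by rw [← h.Q_comb, ← hab, O_map]
  have ha : a ≠ 0 := by rintro rfl; exact hx (by rw [← h1, zero_mul])
  have hb : b ≠ 0 := by rintro rfl; exact hx (by rw [← h1, mul_zero])
  refine ⟨b / a, div_ne_zero hb ha, ⟨a⁻¹, by rw [← h1]; field_simp⟩, ?_⟩
  rw [← mk_refl_apply he, hab, ← refl_smul ha (u + (b / a) • v), smul_add, smul_smul,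
    mul_div_cancel₀ _ ha]

theorem IsHypPair.mk_refl_mul_sq (hQ : Q.polarBilin.Nondegenerate) {u v : V}
    (h : IsHypPair Q u v) (h3 : 3 ≤ finrank F V) {r t : F} (hr : r ≠ 0) (ht : t ≠ 0) :
    (QuotientGroup.mk (refl Q (u + (r * (t * t)) • v)) : O Q ⧸ E Q) =
      QuotientGroup.mk (refl Q (u + r • v)) := by
  obtain ⟨w, hw1, hw2, hw3⟩ := h.exists_nonsingular hQ h3
  have hw0 : w ≠ 0 := by rintro rfl; exact hw3 (map_zero Q)
  have key : ∀ a : F, a ≠ 0 → (QuotientGroup.mk (refl Q (u + (Q w * (a * a)) • v)) : O Q ⧸ E Q) =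
      QuotientGroup.mk (refl Q w) := by
    intro a ha
    obtain ⟨e, he, hew⟩ := h.exists_E_move_of_orth hQ hw0 hw1 hw2 (inv_ne_zero ha)
    rw [← mk_refl_apply he w, hew, ← refl_smul (inv_ne_zero ha) (u + _), smul_add, smul_smul]
    congr 4
    field_simp
  have h1 := h.refl_mul_refl hr hw3 (mul_ne_zero ht ht)
  have h2 := key 1 one_ne_zero
  rw [mul_one, mul_one] at h2
  have h4 := congrArg (QuotientGroup.mk : O Q → O Q ⧸ E Q) h1
  rw [QuotientGroup.mk_mul, QuotientGroup.mk_mul, h2, key t ht, ← QuotientGroup.mk_mul (E Q),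
    ← QuotientGroup.mk_mul (E Q), refl_mul_self, QuotientGroup.mk_one, QuotientGroup.mk_mul,
    mul_eq_one_iff_inv_eq, ← QuotientGroup.mk_inv, refl_inv] at h4
  exact h4.symm

/-- Modulo the Eichler subgroup a reflection depends only on the square class of the norm. -/
theorem IsHypPair.mk_refl_eq (hQ : Q.polarBilin.Nondegenerate) {u v : V}
    (h : IsHypPair Q u v) (h3 : 3 ≤ finrank F V) {x y : V} (hy : Q y ≠ 0) {t : F} (ht : t ≠ 0)
    (hxy : Q x = Q y * (t * t)) :
    (QuotientGroup.mk (refl Q x) : O Q ⧸ E Q) = QuotientGroup.mk (refl Q y) := by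
  have hx : Q x ≠ 0 := by rw [hxy]; exact mul_ne_zero hy (mul_ne_zero ht ht)
  obtain ⟨r, hr, ⟨a, ha⟩, h1⟩ := h.exists_mk_refl hQ hx
  obtain ⟨s, hs, ⟨b, hb⟩, h2⟩ := h.exists_mk_refl hQ hy
  have ha0 : a ≠ 0 := by rintro rfl; exact hr (by rw [ha]; ring)
  have hb0 : b ≠ 0 := by rintro rfl; exact hs (by rw [hb]; ring)
  rw [h1, h2, ← h.mk_refl_mul_sq hQ h3 hs (t := t * a / b) (div_ne_zero (mul_ne_zero ht ha0) hb0)]
  congr 4
  rw [ha, hb, hxy]
  field_simp

theorem commutator_le_E (hQ : Q.polarBilin.Nondegenerate) {u v : V} (h : IsHypPair Q u v)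
    (h3 : 3 ≤ finrank F V) : commutator (O Q) ≤ E Q := by
  have h1 : ∀ x y, Commute (QuotientGroup.mk (refl Q x) : O Q ⧸ E Q)
      (QuotientGroup.mk (refl Q y)) := by
    intro x y
    by_cases hy : Q y = 0
    · rw [refl_of_zero hy]; exact Commute.one_right _
    have := h.mk_refl_eq hQ h3 (x := (refl Q x).1 y) hy one_ne_zero (by rw [O_map]; ring)
    rw [← refl_conj, QuotientGroup.mk_mul, QuotientGroup.mk_mul, QuotientGroup.mk_inv,
      mul_inv_eq_iff_eq_mul] at this
    exact this
  have h2 : ∀ a : O Q ⧸ E Q, (∀ x, Commute (QuotientGroup.mk (refl Q x)) a) →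
      ∀ g : O Q, Commute (QuotientGroup.mk g : O Q ⧸ E Q) a := by
    intro a ha g
    have := O_gen hQ ((Subgroup.centralizer {a}).comap (QuotientGroup.mk' (E Q)))
      (fun x _ => by
        rw [Subgroup.mem_comap, Subgroup.mem_centralizer_singleton_iff]; exact ha x)
      (fun x y _ _ _ => by
        rw [Subgroup.mem_comap, QuotientGroup.mk'_apply,
          (QuotientGroup.eq_one_iff _).2 (eich_mem_E x y)]
        exact Subgroup.one_mem _)
    have hg : g ∈ (Subgroup.centralizer {a}).comap (QuotientGroup.mk' (E Q)) := by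
      rw [this]; trivial
    rw [Subgroup.mem_comap, Subgroup.mem_centralizer_singleton_iff] at hg
    exact hg
  rw [commutator_def, Subgroup.commutator_le]
  intro g _ k _
  rw [← QuotientGroup.eq_one_iff, ← QuotientGroup.mk'_apply, map_commutatorElement,
    commutatorElement_eq_one_iff_commute]
  exact h2 _ (fun x => (h2 _ (fun y => h1 y x) k).symm) g

/-- For a tame isotropic form in dimension at least three, `Ω` is the Eichler subgroup. -/
theorem E_eq_commutator (hQ : Q.polarBilin.Nondegenerate) (hT : Tame Q) {u : V} (hu : Q u = 0)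
    (hu0 : u ≠ 0) (h3 : 3 ≤ finrank F V) : E Q = commutator (O Q) := by
  obtain ⟨v, hv, huv⟩ := exists_hyp_partner' hQ hu hu0
  exact le_antisymm (E_le_commutator hQ hT) (commutator_le_E hQ ⟨hu, hv, huv⟩ h3)

theorem exists_Q_ne_zero (hQ : Q.polarBilin.Nondegenerate) (h1 : 1 ≤ finrank F V) :
    ∃ v, Q v ≠ 0 := by
  obtain ⟨s, -, hs⟩ := exists_ne_zero_of_lt hQ (S := ⊤) (by rw [finrank_top]; omega)
  exact ⟨s, hs⟩

theorem refl_mul_refl_mem_commutator (hQ : Q.polarBilin.Nondegenerate) {x y : V} {t : F}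
    (ht : t ≠ 0) (h : Q x = Q y * (t * t)) : refl Q x * refl Q y ∈ commutator (O Q) := by
  obtain ⟨g, hg⟩ := isConj_iff.1 (refl_isConj hQ (x := t • y) (y := x) (by rw [Q_smul, h]; ring))
  rw [← hg, refl_smul ht]
  have := Subgroup.commutator_mem_commutator (Subgroup.mem_top g) (Subgroup.mem_top (refl Q y))
  rwa [commutatorElement_def, refl_inv] at this

theorem mk_refl_eq_of_sq (hQ : Q.polarBilin.Nondegenerate) {x y : V} {t : F}
    (ht : t ≠ 0) (h : Q x = Q y * (t * t)) :
    Abelianization.of (refl Q x) = Abelianization.of (refl Q y) := by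
  have := refl_mul_refl_mem_commutator hQ ht h
  rw [← Abelianization.ker_of, MonoidHom.mem_ker, map_mul, mul_eq_one_iff_eq_inv, ← map_inv,
    refl_inv] at this
  exact this

/-! ### Finite fields -/

/-- In dimension at least two over a finite field of odd order every scalar is represented. -/
theorem exists_Q_eq_of_odd [Finite F] (h2 : (2 : F) ≠ 0) (hQ : Q.polarBilin.Nondegenerate)
    (hn : 2 ≤ finrank F V) (c : F) : ∃ v, Q v = c := by
  classical
  have := Fintype.ofFinite F
  obtain ⟨x, hx⟩ := exists_Q_ne_zero hQ (by omega)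
  obtain ⟨y, hy, hxy⟩ : ∃ y, Q y ≠ 0 ∧ polar Q x y = 0 := by
    by_contra hc
    push Not at hc
    have h1 : ∀ y, polar Q x y = 0 → Q y = 0 := fun y hy => by
      by_contra h; exact hc y h hy
    have hxx : polar Q x x ≠ 0 := by rw [polar_self']; exact mul_ne_zero h2 hx
    have h3 : ∀ y, polar Q x y = 0 → y = 0 := fun y hy => eq_zero_of_polar hQ fun z => by
      have hz : polar Q x (z - (polar Q x z / polar Q x x) • x) = 0 := by
        rw [polar_sub_right, polar_smul_right', div_mul_cancel₀ _ hxx, sub_self]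
      have h4 := h1 (y + (z - (polar Q x z / polar Q x x) • x)) (by
        rw [polar_add_right, hy, hz, add_zero])
      rw [Q_add, h1 y hy, h1 _ hz, polar_sub_right, polar_smul_right', polar_comm Q y x, hy] at h4
      simpa using h4
    have h4 := finrank_perp_add hQ (Submodule.span F {x})
    have h5 : perp Q (Submodule.span F {x}) = ⊥ := by
      rw [eq_bot_iff]
      intro y hy
      rw [mem_perp_span] at hy
      exact h3 y (hy x rfl)
    have h6 := finrank_span_le_card (R := F) ({x} : Set V)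
    rw [h5, finrank_bot] at h4
    simp at h6
    omega
  have hodd : Fintype.card F % 2 = 1 := by
    apply FiniteField.odd_card_of_char_ne_two
    intro h
    apply h2
    have := ringChar.Nat.cast_ringChar (R := F)
    rw [h] at this
    exact_mod_cast this
  obtain ⟨a, b, hab⟩ := FiniteField.exists_root_sum_quadratic
    (f := Polynomial.C (Q x) * Polynomial.X ^ 2) (g := Polynomial.C (Q y) * Polynomial.X ^ 2 -
      Polynomial.C c) (Polynomial.degree_C_mul_X_pow 2 hx) (by
        rw [Polynomial.degree_sub_eq_left_of_degree_lt, Polynomial.degree_C_mul_X_pow 2 hy]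
        · rfl
        · rw [Polynomial.degree_C_mul_X_pow 2 hy]
          exact lt_of_le_of_lt Polynomial.degree_C_le (by norm_num)) hodd
  refine ⟨a • x + b • y, ?_⟩
  qsimp [hxy]
  simp only [Polynomial.eval_mul, Polynomial.eval_C, Polynomial.eval_pow, Polynomial.eval_X,
    Polynomial.eval_sub] at hab
  linear_combination hab

theorem ringChar_ne_two_of (h2 : (2 : F) ≠ 0) : ringChar F ≠ 2 := by
  intro h
  apply h2
  have := ringChar.Nat.cast_ringChar (R := F)
  rw [h] at this
  exact_mod_cast this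

theorem tame_of_two_ne_zero (h2 : (2 : F) ≠ 0) (hQ : Q.polarBilin.Nondegenerate) : Tame Q :=
  tame_of_field hQ ⟨-1, by simp, fun h => h2 (by linear_combination -h)⟩

/-- The spinor norm over a finite field of odd order: `Ω` is the common kernel of the Dickson
invariant (determinant) and the spinor norm. -/
theorem exists_spin_odd [Finite F] (h2 : (2 : F) ≠ 0) (hQ : Q.polarBilin.Nondegenerate) :
    ∃ θ : O Q →* ℤˣ, (∀ v, Q v ≠ 0 → (θ (refl Q v) = 1 ↔ IsSquare (Q v))) ∧
      (∀ (g : O Q) (c : F), c ≠ 0 → SpinRel g c → (θ g = 1 ↔ IsSquare c)) ∧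
      ∀ g : O Q, g ∈ commutator (O Q) ↔ dsign g = 1 ∧ θ g = 1 := by
  classical
  have := Fintype.ofFinite F
  have hT := tame_of_two_ne_zero h2 hQ
  obtain ⟨θ, hθ1, hθ2⟩ := exists_spinorNorm hQ hT (quadraticChar F).toUnitHom (fun a => by
    ext
    rw [MulChar.coe_toUnitHom, Units.val_mul, ← pow_two, quadraticChar_sq_one' a.ne_zero]
    rfl)
  have hθ3 : ∀ (g : O Q) (c : F), c ≠ 0 → SpinRel g c → (θ g = 1 ↔ IsSquare c) := by
    intro g c hc hgc
    rw [hθ1 g (Units.mk0 c hc) hgc, Units.ext_iff, MulChar.coe_toUnitHom]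
    exact quadraticChar_one_iff_isSquare hc
  have hθ4 : ∀ v, Q v ≠ 0 → (θ (refl Q v) = 1 ↔ IsSquare (Q v)) :=
    fun v hv => hθ3 _ _ hv (spinRel_refl hv)
  refine ⟨θ, hθ4, hθ3, fun g => ⟨fun hg => ⟨?_, ?_⟩, ?_⟩⟩
  · exact Abelianization.commutator_subset_ker (dickson hQ hT) hg
  · exact Abelianization.commutator_subset_ker θ hg
  -- representatives of the two classes of reflections
  obtain ⟨a, ha0, ha1, ha2⟩ : ∃ a : O Q, a * a = 1 ∧ ((dsign a = -1 ∧ θ a = 1) ∨
      (∀ v, Q v ≠ 0 → ¬ IsSquare (Q v))) ∧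
      ∀ v, Q v ≠ 0 → IsSquare (Q v) → Abelianization.of (refl Q v) = Abelianization.of a := by
    by_cases h : ∃ x, Q x ≠ 0 ∧ IsSquare (Q x)
    · obtain ⟨x, hx, s, hs⟩ := h
      refine ⟨refl Q x, refl_mul_self x, Or.inl ⟨dsign_refl hQ hx, (hθ4 x hx).2 ⟨s, hs⟩⟩, ?_⟩
      rintro v hv ⟨t, ht⟩
      have hs0 : s ≠ 0 := by rintro rfl; exact hx (by rw [hs, mul_zero])
      have ht0 : t ≠ 0 := by rintro rfl; exact hv (by rw [ht, mul_zero])
      exact mk_refl_eq_of_sq hQ (div_ne_zero ht0 hs0) (by rw [ht, hs]; field_simp)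
    · push Not at h
      exact ⟨1, one_mul 1, Or.inr h, fun v hv hv' => absurd hv' (h v hv)⟩
  obtain ⟨b, hb0, hb1, hb2⟩ : ∃ b : O Q, b * b = 1 ∧ ((dsign b = -1 ∧ θ b = -1) ∨
      (∀ v, Q v ≠ 0 → IsSquare (Q v))) ∧
      ∀ v, Q v ≠ 0 → ¬ IsSquare (Q v) → Abelianization.of (refl Q v) = Abelianization.of b := by
    by_cases h : ∃ x, Q x ≠ 0 ∧ ¬ IsSquare (Q x)
    · obtain ⟨x, hx, hs⟩ := h
      refine ⟨refl Q x, refl_mul_self x, Or.inl ⟨dsign_refl hQ hx,
        (Int.units_eq_one_or _).resolve_left fun h => hs ((hθ4 x hx).1 h)⟩, ?_⟩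
      intro v hv hv'
      have h1 : IsSquare (Q v / Q x) := by
        rw [← quadraticChar_one_iff_isSquare (div_ne_zero hv hx), div_eq_mul_inv, map_mul,
          quadraticChar_neg_one_iff_not_isSquare.2 hv',
          quadraticChar_neg_one_iff_not_isSquare.2 (by rwa [isSquare_inv])]
        rfl
      obtain ⟨t, ht⟩ := h1
      have ht0 : t ≠ 0 := by rintro rfl; exact div_ne_zero hv hx (by rw [ht, mul_zero])
      exact mk_refl_eq_of_sq hQ ht0 (by rw [← ht]; field_simp)
    · push Not at h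
      exact ⟨1, one_mul 1, Or.inr h, fun v hv hv' => absurd (h v hv) hv'⟩
  have haa : Abelianization.of a * Abelianization.of a = 1 := by rw [← map_mul, ha0, map_one]
  have hbb : Abelianization.of b * Abelianization.of b = 1 := by rw [← map_mul, hb0, map_one]
  have key : ∀ g : O Q, (dsign g = 1 ∧ θ g = 1 ∧ Abelianization.of g = 1) ∨
      (dsign g = -1 ∧ θ g = 1 ∧ Abelianization.of g = Abelianization.of a) ∨
      (dsign g = -1 ∧ θ g = -1 ∧ Abelianization.of g = Abelianization.of b) ∨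
      (dsign g = 1 ∧ θ g = -1 ∧
        Abelianization.of g = Abelianization.of a * Abelianization.of b) := by
    intro g
    refine refl_induction hQ hT (p := fun g => (dsign g = 1 ∧ θ g = 1 ∧ Abelianization.of g = 1) ∨
      (dsign g = -1 ∧ θ g = 1 ∧ Abelianization.of g = Abelianization.of a) ∨
      (dsign g = -1 ∧ θ g = -1 ∧ Abelianization.of g = Abelianization.of b) ∨
      (dsign g = 1 ∧ θ g = -1 ∧
        Abelianization.of g = Abelianization.of a * Abelianization.of b)) ?_ ?_ g
    · exact Or.inl ⟨dsign_one, map_one _, map_one _⟩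
    · intro v g hv ih
      rw [dsign_refl_mul hQ g hv, map_mul, map_mul]
      by_cases hs : IsSquare (Q v)
      · rw [(hθ4 v hv).2 hs, ha2 v hv hs]
        rcases ih with ⟨h1, h2, h3⟩ | ⟨h1, h2, h3⟩ | ⟨h1, h2, h3⟩ | ⟨h1, h2, h3⟩ <;>
          rw [h1, h2, h3]
        · simp
        · simp [haa]
        · simp
        · simp [← mul_assoc, haa]
      · rw [(Int.units_eq_one_or _).resolve_left fun h => hs ((hθ4 v hv).1 h), hb2 v hv hs]
        rcases ih with ⟨h1, h2, h3⟩ | ⟨h1, h2, h3⟩ | ⟨h1, h2, h3⟩ | ⟨h1, h2, h3⟩ <;>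
          rw [h1, h2, h3]
        · simp
        · simp [mul_comm]
        · simp [hbb]
        · simp [mul_left_comm (Abelianization.of b), hbb]
  rintro ⟨h1, h2⟩
  rw [← Abelianization.ker_of, MonoidHom.mem_ker]
  rcases key g with ⟨-, -, h3⟩ | ⟨h3, -, -⟩ | ⟨h3, -, -⟩ | ⟨-, h3, -⟩
  · exact h3
  · rw [h1] at h3; exact absurd h3 (by decide)
  · rw [h1] at h3; exact absurd h3 (by decide)
  · rw [h2] at h3; exact absurd h3 (by decide)

/-- `-1`-type criterion: an element with spinor norm `c` lies in `Ω` iff it has Dickson invariant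
`1` and `c` is a square. -/
theorem mem_commutator_iff_of_spinRel [Finite F] (h2 : (2 : F) ≠ 0)
    (hQ : Q.polarBilin.Nondegenerate) {g : O Q} {c : F} (hc : c ≠ 0) (h : SpinRel g c) :
    g ∈ commutator (O Q) ↔ dsign g = 1 ∧ IsSquare c := by
  obtain ⟨θ, -, h1, h3⟩ := exists_spin_odd h2 hQ
  rw [h3, h1 g c hc h]

theorem index_commutator_odd [Finite F] (h2 : (2 : F) ≠ 0) (hQ : Q.polarBilin.Nondegenerate)
    (hn : 2 ≤ finrank F V) : (commutator (O Q)).index = 4 := by
  classical
  have := Fintype.ofFinite F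
  have hT := tame_of_two_ne_zero h2 hQ
  obtain ⟨θ, h1, -, h3⟩ := exists_spin_odd h2 hQ
  have h4 : commutator (O Q) = ((dickson hQ hT).prod θ).ker := by
    ext g
    rw [h3, MonoidHom.mem_ker, MonoidHom.prod_apply, Prod.mk_eq_one, dickson_apply]
  obtain ⟨x, hx⟩ := exists_Q_eq_of_odd h2 hQ hn 1
  obtain ⟨α, hα⟩ := FiniteField.exists_nonsquare (F := F) (ringChar_ne_two_of h2)
  obtain ⟨y, hy⟩ := exists_Q_eq_of_odd h2 hQ hn α
  have hx0 : Q x ≠ 0 := by rw [hx]; exact one_ne_zero
  have hy0 : Q y ≠ 0 := by rw [hy]; rintro rfl; exact hα IsSquare.zero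
  have hxθ : θ (refl Q x) = 1 := (h1 x hx0).2 (by rw [hx]; exact IsSquare.one)
  have hyθ : θ (refl Q y) = -1 :=
    (Int.units_eq_one_or _).resolve_left fun h => hα (hy ▸ (h1 y hy0).1 h)
  have h5 : ((dickson hQ hT).prod θ).range = ⊤ := by
    rw [eq_top_iff]
    rintro ⟨a, b⟩ -
    rcases Int.units_eq_one_or a with rfl | rfl <;> rcases Int.units_eq_one_or b with rfl | rfl
    · exact ⟨1, map_one _⟩
    · exact ⟨refl Q x * refl Q y, by
        simp [MonoidHom.prod_apply, dickson_refl hQ hT hx0, dickson_refl hQ hT hy0, hxθ, hyθ]⟩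
    · exact ⟨refl Q x, by simp [MonoidHom.prod_apply, dickson_refl hQ hT hx0, hxθ]⟩
    · exact ⟨refl Q y, by simp [MonoidHom.prod_apply, dickson_refl hQ hT hy0, hyθ]⟩
  rw [h4, Subgroup.index_ker, h5, Subgroup.card_top, Nat.card_prod]
  simp

/-- If every scalar is a square (finite fields of characteristic two), `Ω` is the kernel of the
Dickson invariant. -/
theorem mem_commutator_iff_of_sq (hsq : ∀ a : F, IsSquare a) (hQ : Q.polarBilin.Nondegenerate)
    (hT : Tame Q) (g : O Q) : g ∈ commutator (O Q) ↔ dsign g = 1 := by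
  refine ⟨fun hg => Abelianization.commutator_subset_ker (dickson hQ hT) hg, ?_⟩
  have key : ∀ g : O Q, (dsign g = 1 ∧ Abelianization.of g = 1) ∨
      (dsign g = -1 ∧ ∀ v, Q v ≠ 0 → Abelianization.of g = Abelianization.of (refl Q v)) := by
    have h0 : ∀ v w, Q v ≠ 0 → Q w ≠ 0 →
        Abelianization.of (refl Q v) = Abelianization.of (refl Q w) := by
      intro v w hv hw
      obtain ⟨t, ht⟩ := hsq (Q v / Q w)
      have ht0 : t ≠ 0 := by rintro rfl; exact div_ne_zero hv hw (by rw [ht, mul_zero])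
      exact mk_refl_eq_of_sq hQ ht0 (by rw [← ht]; field_simp)
    intro g
    refine refl_induction hQ hT (p := fun g => (dsign g = 1 ∧ Abelianization.of g = 1) ∨
      (dsign g = -1 ∧ ∀ v, Q v ≠ 0 → Abelianization.of g = Abelianization.of (refl Q v))) ?_ ?_ g
    · exact Or.inl ⟨dsign_one, map_one _⟩
    · intro v g hv ih
      rw [dsign_refl_mul hQ g hv, map_mul]
      rcases ih with ⟨h1, h2⟩ | ⟨h1, h2⟩
      · exact Or.inr ⟨by rw [h1], fun w hw => by rw [h2, mul_one, h0 v w hv hw]⟩
      · exact Or.inl ⟨by rw [h1, neg_neg], by rw [h2 v hv, ← map_mul, refl_mul_self, map_one]⟩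
  intro h1
  rw [← Abelianization.ker_of, MonoidHom.mem_ker]
  rcases key g with ⟨-, h3⟩ | ⟨h3, -⟩
  · exact h3
  · rw [h1] at h3; exact absurd h3 (by decide)

theorem index_commutator_of_sq (hsq : ∀ a : F, IsSquare a) (hQ : Q.polarBilin.Nondegenerate)
    (hT : Tame Q) (hn : 1 ≤ finrank F V) : (commutator (O Q)).index = 2 := by
  have h4 : commutator (O Q) = (dickson hQ hT).ker := by
    ext g
    rw [mem_commutator_iff_of_sq hsq hQ hT, MonoidHom.mem_ker, dickson_apply]
  obtain ⟨x, hx⟩ := exists_Q_ne_zero hQ hn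
  have h5 : (dickson hQ hT).range = ⊤ := by
    rw [eq_top_iff]
    rintro a -
    rcases Int.units_eq_one_or a with rfl | rfl
    · exact ⟨1, map_one _⟩
    · exact ⟨refl Q x, dickson_refl hQ hT hx⟩
  rw [h4, Subgroup.index_ker, h5, Subgroup.card_top]
  simp

theorem isSquare_of_two_eq_zero [Finite F] (h2 : (2 : F) = 0) (a : F) : IsSquare a := by
  have := Fintype.ofFinite F
  have : CharP F 2 := (CharP.charP_iff_prime_eq_zero Nat.prime_two).2 (by exact_mod_cast h2)
  exact FiniteField.isSquare_of_char_two (ringChar.eq F 2) a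

theorem index_commutator_even [Finite F] (h2 : (2 : F) = 0) (hQ : Q.polarBilin.Nondegenerate)
    (hT : Tame Q) (hn : 1 ≤ finrank F V) : (commutator (O Q)).index = 2 :=
  index_commutator_of_sq (isSquare_of_two_eq_zero h2) hQ hT hn

end FiniteDim

end CL.Orth
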